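import Groth.Agent.Lib.GITQuot.Basic
import Groth.Agent.Lib.GrpdB.Section
import Mathlib.AlgebraicGeometry.Morphisms.Separated

/-! # Orbits of geometric quotients. -/

set_option autoImplicit false
set_option linter.style.haveILetI false
set_option backward.isDefEq.respectTransparency.types false
universe u

open CategoryTheory Limits MonoidalCategory CartesianMonoidalCategory AlgebraicGeometry Topology

noncomputable section

namespace Groth.Agent.GITQuot

variable {S : Scheme.{u}} {G X Y : Over S} [GrpObj G] {a : AlgGrp.Action G X} {φ : X ⟶ Y}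

theorem whiskerRight_psi_snd {T : Over S} (f : T ⟶ X) (hinv : GIT.IsInvariant a φ) :
    GIT.psi a f ≫ (φ ▷ T) = snd G T ≫ lift (f ≫ φ) (𝟙 T) := by
  have : (G ◁ f) ≫ a.act ≫ φ = snd G T ≫ f ≫ φ := by rw [hinv, whiskerLeft_snd_assoc]
  ext1 <;> simp [GIT.psi, this]

/-- The range of `psi a f` is the preimage of the graph of `f ≫ φ`. -/
theorem range_psi (h : GIT.IsGeomQuot a φ) {T : Over S} (f : T ⟶ X) :
    Set.range (GIT.psi a f).left.base = (φ ▷ T).left.base ⁻¹' Set.range (lift (f ≫ φ) (𝟙 T)).left.base := by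
  set sect := lift (f ≫ φ) (𝟙 T)
  refine subset_antisymm ?_ fun p hp => ?_
  · rintro _ ⟨q, rfl⟩
    refine ⟨(snd G T).left q, ?_⟩
    have := congrArg (fun m : G ⊗ T ⟶ Y ⊗ T => m.left q) (whiskerRight_psi_snd f h.inv)
    exact this.symm
  · obtain ⟨t, ht⟩ := hp
    obtain ⟨q, hq, -⟩ := Scheme.Pullback.exists_preimage_pullback (f := (φ ▷ T).left) (g := sect.left) p t ht.symm
    let Q : Over S := Over.mk (pullback.fst (φ ▷ T).left sect.left ≫ (X ⊗ T).hom)
    let i : Q ⟶ X ⊗ T := Over.homMk (pullback.fst (φ ▷ T).left sect.left) rfl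
    let tQ : Q ⟶ T := Over.homMk (pullback.snd (φ ▷ T).left sect.left) (by
      show _ = pullback.fst (φ ▷ T).left sect.left ≫ (X ⊗ T).hom
      rw [← Over.w (φ ▷ T), ← Category.assoc, pullback.condition, Category.assoc, Over.w sect])
    have hw : i ≫ (φ ▷ T) = tQ ≫ sect := Over.OverMorphism.ext pullback.condition
    have hx : (i ≫ fst X T) ≫ φ = (tQ ≫ f) ≫ φ := by
      simpa [sect] using congrArg (· ≫ fst Y T) hw
    have ht' : i ≫ snd X T = tQ := by simpa [sect] using congrArg (· ≫ snd Y T) hw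
    let m : Q.left ⟶ pullback φ.left φ.left :=
      pullback.lift (i ≫ fst X T).left (tQ ≫ f).left (congrArg CommaMorphism.left hx)
    obtain ⟨z, hz⟩ := h.orbit (m q)
    obtain ⟨w, -, hw2⟩ := Scheme.Pullback.exists_preimage_pullback (f := GIT.PsiY a φ h.inv) (g := m) z q hz
    let W : Over S := Over.mk (pullback.snd (GIT.PsiY a φ h.inv) m ≫ Q.hom)
    let pr : W ⟶ Q := Over.homMk (pullback.snd (GIT.PsiY a φ h.inv) m) rfl
    have c1 : pullback.fst (GIT.PsiY a φ h.inv) m ≫ a.act.left = pr.left ≫ (i ≫ fst X T).left :=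
      calc _ = (pullback.fst (GIT.PsiY a φ h.inv) m ≫ GIT.PsiY a φ h.inv) ≫ pullback.fst _ _ := by
            rw [Category.assoc, GIT.PsiY, pullback.lift_fst]
        _ = _ := by rw [pullback.condition, Category.assoc, pullback.lift_fst]; rfl
    have c2 : pullback.fst (GIT.PsiY a φ h.inv) m ≫ (snd G X).left = pr.left ≫ (tQ ≫ f).left :=
      calc _ = (pullback.fst (GIT.PsiY a φ h.inv) m ≫ GIT.PsiY a φ h.inv) ≫ pullback.snd _ _ := by
            rw [Category.assoc, GIT.PsiY, pullback.lift_snd]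
        _ = _ := by rw [pullback.condition, Category.assoc, pullback.lift_snd]; rfl
    let gx : W ⟶ G ⊗ X := Over.homMk (pullback.fst (GIT.PsiY a φ h.inv) m) (by
      show _ = pullback.snd (GIT.PsiY a φ h.inv) m ≫ Q.hom
      rw [← Over.w a.act, ← Category.assoc, c1, Category.assoc, Over.w (i ≫ fst X T)]
      rfl)
    have d1 : gx ≫ a.act = pr ≫ i ≫ fst X T := Over.OverMorphism.ext c1
    have d2 : gx ≫ snd G X = pr ≫ tQ ≫ f := Over.OverMorphism.ext c2
    let l : W ⟶ G ⊗ T := lift (gx ≫ fst G X) (pr ≫ tQ)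
    have hl1 : l ≫ (G ◁ f) = gx := by ext1 <;> simp [l, d2]
    have hl : l ≫ GIT.psi a f = pr ≫ i := by
      ext1
      · simp [GIT.psi, reassoc_of% hl1, d1]
      · simp [GIT.psi, l, ht']
    exact ⟨l.left w, (congrArg (fun n : W ⟶ X ⊗ T => n.left w) hl).trans
      ((congrArg i.left hw2).trans hq)⟩

theorem isClosedAction (h : GIT.IsGeomQuot a φ) : GIT.IsClosedAction a := by
  intro Ω _ _ T e f
  rw [range_psi h f]
  refine IsClosed.preimage (φ ▷ T).left.continuous ?_
  haveI : IsClosedImmersion (e.inv ≫ (lift (f ≫ φ) (𝟙 T)).left) :=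
    GrpdB.isClosedImmersion_of_section ((snd Y T).left ≫ e.hom) _ (by
      rw [Category.assoc, ← Category.assoc _ (snd Y T).left, ← Over.comp_left, lift_snd]
      simp)
  haveI : IsClosedImmersion (lift (f ≫ φ) (𝟙 T)).left := by
    rw [← e.hom_inv_id_assoc (lift (f ≫ φ) (𝟙 T)).left]; infer_instance
  exact (lift (f ≫ φ) (𝟙 T)).left.isClosedEmbedding.isClosed_range

theorem isPullback_whiskerRight {X Y : Over S} (φ : X ⟶ Y) (Z : Over S) :
    IsPullback (φ ▷ Z).left (fst X Z).left (fst Y Z).left φ.left := by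
  have h2 : IsPullback (snd Y Z).left (fst Y Z).left Z.hom Y.hom := (IsPullback.of_hasPullback Y.hom Z.hom).flip
  have e : (φ ▷ Z).left ≫ (snd Y Z).left = (snd X Z).left := by rw [← Over.comp_left, whiskerRight_snd]
  have h1 : IsPullback ((φ ▷ Z).left ≫ (snd Y Z).left) (fst X Z).left Z.hom (φ.left ≫ Y.hom) := by
    rw [e, Over.w φ]; exact (IsPullback.of_hasPullback X.hom Z.hom).flip
  exact IsPullback.of_right h1 (by rw [← Over.comp_left, ← Over.comp_left, whiskerRight_fst]) h2

theorem isPullback_whiskerLeft {X Y : Over S} (φ : X ⟶ Y) (Z : Over S) :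
    IsPullback (Z ◁ φ).left (snd Z X).left (snd Z Y).left φ.left := by
  have h2 : IsPullback (fst Z Y).left (snd Z Y).left Z.hom Y.hom := IsPullback.of_hasPullback Z.hom Y.hom
  have e : (Z ◁ φ).left ≫ (fst Z Y).left = (fst Z X).left := by rw [← Over.comp_left, whiskerLeft_fst]
  have h1 : IsPullback ((Z ◁ φ).left ≫ (fst Z Y).left) (snd Z X).left Z.hom (φ.left ≫ Y.hom) := by
    rw [e, Over.w φ]; exact IsPullback.of_hasPullback Z.hom X.hom
  exact IsPullback.of_right h1 (by rw [← Over.comp_left, ← Over.comp_left, whiskerLeft_snd]) h2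

theorem isSeparated_iff (h : GIT.IsGeomQuot a φ) :
    IsSeparated Y.hom ↔ IsClosed (Set.range (GIT.psi a (𝟙 X)).left.base) := by
  have hr := range_psi h (𝟙 X)
  rw [Category.id_comp] at hr
  have q1 : IsQuotientMap (φ ▷ X).left.base :=
    MorphismProperty.universally_le (topologically @IsQuotientMap) _
      (MorphismProperty.of_isPullback (P := (topologically @IsQuotientMap).universally)
        (isPullback_whiskerRight φ X).flip h.subm)
  have q2 : IsQuotientMap (Y ◁ φ).left.base :=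
    MorphismProperty.universally_le (topologically @IsQuotientMap) _
      (MorphismProperty.of_isPullback (P := (topologically @IsQuotientMap).universally)
        (isPullback_whiskerLeft φ Y).flip h.subm)
  let δ : Y ⟶ Y ⊗ Y := lift (𝟙 Y) (𝟙 Y)
  have hδ : φ ≫ δ = lift φ (𝟙 X) ≫ (Y ◁ φ) := by ext1 <;> simp [δ]
  have hpre : (Y ◁ φ).left.base ⁻¹' Set.range δ.left.base = Set.range (lift φ (𝟙 X)).left.base := by
    refine subset_antisymm (fun p hp => ?_) ?_
    · obtain ⟨y, hy⟩ := hp
      obtain ⟨q, hq, -⟩ := Scheme.Pullback.exists_preimage_pullback (f := (Y ◁ φ).left) (g := δ.left) p y hy.symm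
      let Q : Over S := Over.mk (pullback.fst (Y ◁ φ).left δ.left ≫ (Y ⊗ X).hom)
      let i : Q ⟶ Y ⊗ X := Over.homMk (pullback.fst (Y ◁ φ).left δ.left) rfl
      let yQ : Q ⟶ Y := Over.homMk (pullback.snd (Y ◁ φ).left δ.left) (by
        show _ = pullback.fst (Y ◁ φ).left δ.left ≫ (Y ⊗ X).hom
        rw [← Over.w (Y ◁ φ), ← Category.assoc, pullback.condition, Category.assoc, Over.w δ])
      have hw : i ≫ (Y ◁ φ) = yQ ≫ δ := Over.OverMorphism.ext pullback.condition
      have h1 : i ≫ fst Y X = yQ := by simpa [δ] using congrArg (· ≫ fst Y Y) hw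
      have h2 : (i ≫ snd Y X) ≫ φ = yQ := by simpa [δ] using congrArg (· ≫ snd Y Y) hw
      have hi : (i ≫ snd Y X) ≫ lift φ (𝟙 X) = i := by
        rw [comp_lift, h2, Category.comp_id, ← h1, lift_comp_fst_snd]
      exact ⟨(i ≫ snd Y X).left q, (congrArg (fun n : Q ⟶ Y ⊗ X => n.left q) hi).trans hq⟩
    · rintro _ ⟨x, rfl⟩
      exact ⟨φ.left x, congrArg (fun n : X ⟶ Y ⊗ Y => n.left x) hδ⟩
  have hY : IsSeparated Y.hom ↔ IsClosed (Set.range δ.left.base) := by
    have hd : δ.left = pullback.diagonal Y.hom := rfl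
    rw [hd, AlgebraicGeometry.isSeparated_iff, IsClosedImmersion.iff_isPreimmersion]
    exact ⟨fun h => h.2, fun h => ⟨inferInstance, h⟩⟩
  rw [hY, hr, q1.isClosed_preimage, ← hpre, q2.isClosed_preimage]

end Groth.Agent.GITQuot
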