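import Groth.Agent.Lib.GITQuot.Orbit
import Mathlib.AlgebraicGeometry.Sites.Fpqc
import Mathlib.AlgebraicGeometry.Morphisms.UniversallyOpen
import Mathlib.Algebra.Polynomial.AlgebraMap

/-! # Faithfully flat torsors are geometric quotients. -/

set_option autoImplicit false
set_option linter.style.haveILetI false
set_option backward.isDefEq.respectTransparency.types false
universe u

open CategoryTheory Limits MonoidalCategory CartesianMonoidalCategory AlgebraicGeometry Topology Opposite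

noncomputable section

namespace Groth.Agent.GITQuot

/-- The affine line over `ℤ`. -/
abbrev A1 : Scheme.{u} := Spec (CommRingCat.of (Polynomial (ULift.{u} ℤ)))

/-- A global function as a morphism to the affine line. -/
def fnS {T : Scheme.{u}} (s : Γ(T, ⊤)) : T ⟶ A1.{u} :=
  T.toSpecΓ ≫ Spec.map (CommRingCat.ofHom (Polynomial.eval₂RingHom ((Int.castRingHom _).comp ULift.ringEquiv.toRingHom) s))

/-- The value of a morphism to the affine line. -/
def valA1 {T : Scheme.{u}} (g : T ⟶ A1.{u}) : Γ(T, ⊤) :=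
  g.appTop ((Scheme.ΓSpecIso _).inv Polynomial.X)

theorem valA1_comp {T T' : Scheme.{u}} (t : T' ⟶ T) (g : T ⟶ A1.{u}) : valA1 (t ≫ g) = t.appTop (valA1 g) := by
  rw [valA1, valA1, Scheme.Hom.comp_appTop]
  rfl

theorem valA1_fnS {T : Scheme.{u}} (s : Γ(T, ⊤)) : valA1 (fnS s) = s := by
  rw [valA1, fnS, Scheme.Hom.comp_appTop, Scheme.toSpecΓ_appTop, ← CommRingCat.comp_apply, ← Category.assoc,
    ← Scheme.ΓSpecIso_inv_naturality, Category.assoc, Iso.inv_hom_id, Category.comp_id]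
  exact Polynomial.eval₂_X _ _

theorem comp_fnS {T T' : Scheme.{u}} (t : T' ⟶ T) (s : Γ(T, ⊤)) : t ≫ fnS s = fnS (t.appTop s) := by
  rw [fnS, fnS, Scheme.toSpecΓ_naturality_assoc, ← Spec.map_comp]
  congr 2
  refine CommRingCat.hom_ext (Polynomial.ringHom_ext (fun r => ?_) ?_)
  · simp
  · simp

theorem appLE_congr {X Y : Scheme.{u}} {f g : X ⟶ Y} (h : f = g) (U : Y.Opens) (V : X.Opens) (e : V ≤ f ⁻¹ᵁ U) :
    f.appLE U V e = g.appLE U V (h ▸ e) := by subst h; rfl

variable {S : Scheme.{u}} {G X Y : Over S} [GrpObj G] {a : AlgGrp.Action G X} {φ : X ⟶ Y}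

theorem PsiY_fst (hi : GIT.IsInvariant a φ) : GIT.PsiY a φ hi ≫ pullback.fst _ _ = a.act.left :=
  pullback.lift_fst _ _ _

theorem PsiY_snd (hi : GIT.IsInvariant a φ) : GIT.PsiY a φ hi ≫ pullback.snd _ _ = (snd G X).left :=
  pullback.lift_snd _ _ _

theorem ι_appLE_appTop {X W : Scheme.{u}} {O : X.Opens} (g : W ⟶ O.toScheme) (e : (⊤ : O.toScheme.Opens) ≤ O.ι ⁻¹ᵁ O)
    (f : Γ(X, O)) : g.appTop (O.ι.appLE O ⊤ e f) = (g ≫ O.ι).appLE O ⊤ (fun z _ => (g z).2) f := by
  rw [← CommRingCat.comp_apply]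
  refine congrArg (fun m => (CommRingCat.Hom.hom m) f) ?_
  simp only [Scheme.Hom.appTop, Scheme.Hom.app_eq_appLE]
  exact Scheme.Hom.appLE_comp_appLE _ _ _ _ _ _ _

theorem isInvSection_app (hi : GIT.IsInvariant a φ) (U : Y.left.Opens) (t : Γ(Y.left, U)) :
    GIT.IsInvSection a φ U (φ.left.app U t) := by
  show _ = _
  rw [φ.left.app_eq_appLE]
  simp only [← CommRingCat.comp_apply]
  congr 1
  simp only [Scheme.Hom.appLE_comp_appLE, hi.left]

theorem sections_of_fpqc (hi : GIT.IsInvariant a φ) [QuasiCompact φ.left] [Flat φ.left] [Surjective φ.left]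
    (hΨ : IsIso (GIT.PsiY a φ hi)) (U : Y.left.Opens) :
    Function.Injective (φ.left.app U) ∧ Set.range (φ.left.app U) = {f | GIT.IsInvSection a φ U f} := by
  set O := φ.left ⁻¹ᵁ U
  set p := φ.left ∣_ U with hp
  haveI : QuasiCompact p := IsZariskiLocalAtTarget.restrict ‹_› U
  haveI : Flat p := IsZariskiLocalAtTarget.restrict ‹_› U
  haveI : Surjective p := IsZariskiLocalAtTarget.restrict ‹_› U
  have hιO : O.ι ⁻¹ᵁ O = ⊤ := O.ι_preimage_self
  have hιU : U.ι ⁻¹ᵁ U = ⊤ := U.ι_preimage_self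
  let resO : Γ(X.left, O) ⟶ Γ(O.toScheme, ⊤) := O.ι.appLE O ⊤ hιO.ge
  let resU : Γ(Y.left, U) ⟶ Γ(U.toScheme, ⊤) := U.ι.appLE U ⊤ hιU.ge
  have hresO : Function.Bijective resO := by
    haveI : IsIso resO := by
      simp only [resO, Scheme.Opens.ι_appLE]
      rw [show (homOfLE _ : O.ι ''ᵁ ⊤ ⟶ O) = eqToHom O.ι_image_top from Subsingleton.elim _ _]
      exact (X.left.presheaf.mapIso (eqToIso O.ι_image_top).op).isIso_hom
    exact ConcreteCategory.bijective_of_isIso resO
  have hresU : Function.Bijective resU := by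
    haveI : IsIso resU := by
      simp only [resU, Scheme.Opens.ι_appLE]
      rw [show (homOfLE _ : U.ι ''ᵁ ⊤ ⟶ U) = eqToHom U.ι_image_top from Subsingleton.elim _ _]
      exact (Y.left.presheaf.mapIso (eqToIso U.ι_image_top).op).isIso_hom
    exact ConcreteCategory.bijective_of_isIso resU
  have hnat : ∀ t, p.appTop (resU t) = resO (φ.left.app U t) := by
    intro t
    rw [φ.left.app_eq_appLE, ← CommRingCat.comp_apply, ← CommRingCat.comp_apply]
    refine congrArg (fun m => (CommRingCat.Hom.hom m) t) ?_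
    simp only [resU, resO, Scheme.Hom.appTop, Scheme.Hom.app_eq_appLE]
    exact (Scheme.Hom.appLE_comp_appLE (φ.left ∣_ U) U.ι _ _ _ _ _).trans
      ((appLE_congr (morphismRestrict_ι φ.left U) _ _ _).trans
        (Scheme.Hom.appLE_comp_appLE O.ι φ.left _ _ _ _ _).symm)
  refine ⟨fun x y hxy => hresU.1 ?_, Set.ext fun f => ⟨?_, fun hf => ?_⟩⟩
  · have : p ≫ fnS (resU x) = p ≫ fnS (resU y) := by rw [comp_fnS, comp_fnS, hnat, hnat, hxy]
    simpa [valA1_fnS] using congrArg valA1 ((cancel_epi p).1 this)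
  · rintro ⟨t, rfl⟩
    exact isInvSection_app hi U t
  · have hdesc : ∀ {W : Scheme.{u}} (g₁ g₂ : W ⟶ O.toScheme), g₁ ≫ p = g₂ ≫ p →
        g₁ ≫ fnS (resO f) = g₂ ≫ fnS (resO f) := by
      intro W g₁ g₂ hg
      have hg' : (g₁ ≫ O.ι) ≫ φ.left = (g₂ ≫ O.ι) ≫ φ.left := by
        simpa [hp, morphismRestrict_ι] using congrArg (· ≫ U.ι) hg
      let w : W ⟶ (G ⊗ X).left := pullback.lift (g₁ ≫ O.ι) (g₂ ≫ O.ι) hg' ≫ inv (GIT.PsiY a φ hi)
      have hw : w ≫ GIT.PsiY a φ hi = pullback.lift (g₁ ≫ O.ι) (g₂ ≫ O.ι) hg' := by simp [w]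
      have w1 : w ≫ a.act.left = g₁ ≫ O.ι := by
        calc _ = (w ≫ GIT.PsiY a φ hi) ≫ pullback.fst _ _ := ((Category.assoc _ _ _).trans (congrArg (w ≫ ·) (PsiY_fst hi))).symm
          _ = _ := by rw [hw, pullback.lift_fst]
      have w2 : w ≫ (snd G X).left = g₂ ≫ O.ι := by
        calc _ = (w ≫ GIT.PsiY a φ hi) ≫ pullback.snd _ _ := ((Category.assoc _ _ _).trans (congrArg (w ≫ ·) (PsiY_snd hi))).symm
          _ = _ := by rw [hw, pullback.lift_snd]
      rw [comp_fnS, comp_fnS]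
      apply congrArg fnS
      set V := a.act.left ⁻¹ᵁ O ⊓ (snd G X).left ⁻¹ᵁ O
      have hV : (⊤ : W.Opens) ≤ w ⁻¹ᵁ V := fun z _ =>
        ⟨show (w ≫ a.act.left) z ∈ O by rw [w1]; exact (g₁ z).2,
          show (w ≫ (snd G X).left) z ∈ O by rw [w2]; exact (g₂ z).2⟩
      have key := congrArg (w.appLE V ⊤ hV) (show _ = _ from hf)
      rw [← CommRingCat.comp_apply, ← CommRingCat.comp_apply] at key
      show g₁.appTop (O.ι.appLE O ⊤ hιO.ge f) = g₂.appTop (O.ι.appLE O ⊤ hιO.ge f)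
      rw [ι_appLE_appTop, ι_appLE_appTop]
      refine Eq.trans ?_ (key.trans ?_)
      · refine congrArg (fun m => (CommRingCat.Hom.hom m) f) ?_
        exact (appLE_congr w1.symm _ _ _).trans (Scheme.Hom.appLE_comp_appLE w a.act.left _ _ _ _ _).symm
      · refine congrArg (fun m => (CommRingCat.Hom.hom m) f) ?_
        exact (Scheme.Hom.appLE_comp_appLE w (snd G X).left _ _ _ _ _).trans (appLE_congr w2 _ _ _)
    obtain ⟨t, ht⟩ := hresU.2 (valA1 (EffectiveEpi.desc p (fnS (resO f)) hdesc))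
    refine ⟨t, hresO.1 ?_⟩
    rw [← hnat, ht, ← valA1_comp, EffectiveEpi.fac, valA1_fnS]

theorem isUnivSubmersive {X Y : Scheme.{u}} (f : X ⟶ Y) [UniversallyOpen f] [Surjective f] :
    GIT.IsUnivSubmersive f := by
  intro X' Y' i₁ i₂ f' H
  haveI : UniversallyOpen f' := MorphismProperty.of_isPullback H.flip ‹UniversallyOpen f›
  haveI : Surjective f' := MorphismProperty.of_isPullback H.flip ‹Surjective f›
  exact (f'.isOpenMap).isQuotientMap f'.continuous f'.surjective

theorem isUnivSubmersive_of_flat {X Y : Scheme.{u}} (f : X ⟶ Y) [Flat f] [QuasiCompact f] [Surjective f] :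
    GIT.IsUnivSubmersive f := by
  intro X' Y' i₁ i₂ f' H
  haveI : Flat f' := MorphismProperty.of_isPullback H.flip ‹Flat f›
  haveI : QuasiCompact f' := MorphismProperty.of_isPullback H.flip ‹QuasiCompact f›
  haveI : Surjective f' := MorphismProperty.of_isPullback H.flip ‹Surjective f›
  exact Flat.isQuotientMap_of_surjective f'

theorem isGeomQuot_of_fpqc (hi : GIT.IsInvariant a φ) [QuasiCompact φ.left] [Flat φ.left] [Surjective φ.left]
    (hΨ : IsIso (GIT.PsiY a φ hi)) : GIT.IsGeomQuot a φ where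
  inv := hi
  surj := φ.left.surjective
  orbit := (GIT.PsiY a φ hi).surjective
  subm := isUnivSubmersive_of_flat φ.left
  sections := sections_of_fpqc hi hΨ

theorem isClosedImmersion_psi [IsSeparated Y.hom] (hi : GIT.IsInvariant a φ) (hΨ : IsIso (GIT.PsiY a φ hi)) :
    IsClosedImmersion (GIT.psi a (𝟙 X)).left := by
  have h : (GIT.psi a (𝟙 X)).left = GIT.PsiY a φ hi ≫ pullback.mapDesc φ.left φ.left Y.hom ≫
      (pullback.congrHom (Over.w φ) (Over.w φ)).hom := by
    refine pullback.hom_ext (f := X.hom) (g := X.hom) ?_ ?_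
    · show (GIT.psi a (𝟙 X) ≫ fst X X).left = _
      simp only [GIT.psi, lift_fst, MonoidalCategory.whiskerLeft_id, Category.id_comp, pullback.mapDesc,
        pullback.map, pullback.congrHom_hom, Category.assoc]
      erw [pullback.lift_fst, pullback.lift_fst_assoc, Category.comp_id]
      erw [Category.comp_id]
      exact (PsiY_fst hi).symm
    · show (GIT.psi a (𝟙 X) ≫ snd X X).left = _
      simp only [GIT.psi, lift_snd, pullback.mapDesc, pullback.map, pullback.congrHom_hom, Category.assoc]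
      erw [pullback.lift_snd, pullback.lift_snd_assoc, Category.comp_id]
      erw [Category.comp_id]
      exact (PsiY_snd hi).symm
  rw [h]
  infer_instance

end Groth.Agent.GITQuot
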