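import Groth.Agent.Lib.GITQuot.Fpqc
import Groth.Agent.Lib.AlgGrpBasic19.Basic
import Mathlib.AlgebraicGeometry.Morphisms.Flat
import Mathlib.AlgebraicGeometry.Morphisms.QuasiSeparated

/-! # Descent of geometric quotients along faithfully flat quasi-compact morphisms, and universal openness -/

set_option autoImplicit false
set_option linter.style.haveILetI false
set_option backward.isDefEq.respectTransparency.types false
universe u

open CategoryTheory Limits MonoidalCategory CartesianMonoidalCategory MonObj AlgebraicGeometry Topology Opposite TensorProduct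

noncomputable section

namespace Groth.Agent.GITQuot

section Sections

variable {X Y : Scheme.{u}}

lemma pushout_inr_injective {A B C : CommRingCat.{u}} (f : A ⟶ B) (g : A ⟶ C)
    (hf : Function.Injective f) (hg : g.hom.Flat) : Function.Injective (pushout.inr f g) := by
  algebraize [f.hom, g.hom]
  have h := CommRingCat.isPushout_tensorProduct A B C
  have hinj : Function.Injective
      (Algebra.TensorProduct.includeRight : C →ₐ[A] B ⊗[A] C) := by
    have := Algebra.TensorProduct.includeRight_injective (R := A) (A := B) (B := C) hf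
    exact this
  have e : pushout.inr f g ≫ h.isoPushout.inv = _ := h.inr_isoPushout_inv
  intro x y hxy
  refine hinj ?_
  have := congrArg (h.isoPushout.inv) hxy
  rw [← CommRingCat.comp_apply, ← CommRingCat.comp_apply, e] at this
  exact this

/-- Injectivity on sections is preserved by flat base change of quasi-compact morphisms. -/
theorem injective_app_of_isPullback {P T S : Scheme.{u}} {g : P ⟶ X} {q : P ⟶ T} {p : X ⟶ S}
    {f : T ⟶ S} (H : IsPullback g q p f) [QuasiCompact p] [Flat f]
    (hp : ∀ U, Function.Injective (p.app U)) (V : T.Opens) : Function.Injective (q.app V) := by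
  rw [injective_iff_map_eq_zero]
  intro t ht
  have hloc : ∀ x ∈ V, ∃ (W : T.Opens) (e : W ≤ V), x ∈ W ∧ T.presheaf.map (homOfLE e).op t = 0 := by
    intro x hx
    obtain ⟨US, hUS, hxS, -⟩ := exists_isAffineOpen_mem_and_subset (X := S) (x := f x) (U := ⊤) trivial
    obtain ⟨UT, hUT, hxT, hle⟩ := exists_isAffineOpen_mem_and_subset (X := T) (x := x)
      (U := V ⊓ f ⁻¹ᵁ US) ⟨hx, hxS⟩
    have hTV : UT ≤ V := hle.trans inf_le_left
    have hTS : UT ≤ f ⁻¹ᵁ US := hle.trans inf_le_right
    refine ⟨UT, hTV, hxT, ?_⟩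
    have hUY : q ⁻¹ᵁ UT = g ⁻¹ᵁ (p ⁻¹ᵁ US) ⊓ q ⁻¹ᵁ UT := by
      refine le_antisymm (le_inf ?_ le_rfl) inf_le_right
      intro z hz
      show (g ≫ p) z ∈ US
      rw [H.w]
      exact hTS hz
    haveI := mono_pushoutSection_of_isCompact_of_flat_right H hTS le_rfl hUY hUS hUT
      (p.isCompact_preimage hUS.isCompact)
    have h1 : Function.Injective (pushout.inr (p.appLE US (p ⁻¹ᵁ US) le_rfl) (f.appLE US UT hTS)) :=
      pushout_inr_injective _ _ (by rw [← Scheme.Hom.app_eq_appLE]; exact hp US) (f.flat_appLE hUS hUT _)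
    have h2 : Function.Injective (pushoutSection H hTS le_rfl hUY) :=
      ConcreteCategory.injective_of_mono_of_preservesPullback _
    refine h1 (h2 ?_)
    rw [map_zero, map_zero, ← CommRingCat.comp_apply, pushout.inr_desc, ← CommRingCat.comp_apply,
      Scheme.Hom.map_appLE, Scheme.Hom.appLE, CommRingCat.comp_apply, ht, map_zero]
  choose W hWV hxW hW using hloc
  refine T.sheaf.eq_of_locally_eq' (fun x : V => W x x.2) V (fun x => homOfLE (hWV x x.2))
    (fun y hy => TopologicalSpace.Opens.mem_iSup.2 ⟨⟨y, hy⟩, hxW y hy⟩) t 0 fun x => ?_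
  rw [map_zero]
  exact hW x x.2

/-- Sections over an open as global functions on it. -/
abbrev resT (U : X.Opens) : Γ(X, U) ⟶ Γ(U.toScheme, ⊤) := U.ι.appLE U ⊤ U.ι_preimage_self.ge

lemma resT_bijective (U : X.Opens) : Function.Bijective (resT U) := by
  haveI : IsIso (resT U) := by
    simp only [resT, Scheme.Opens.ι_appLE]
    rw [show (homOfLE _ : U.ι ''ᵁ ⊤ ⟶ U) = eqToHom U.ι_image_top from Subsingleton.elim _ _]
    exact (X.presheaf.mapIso (eqToIso U.ι_image_top).op).isIso_hom
  exact ConcreteCategory.bijective_of_isIso _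

lemma resLE_resT (f : X ⟶ Y) {U : Y.Opens} {V : X.Opens} (e : V ≤ f ⁻¹ᵁ U) (t : Γ(Y, U)) :
    (f.resLE U V e).appTop (resT U t) = resT V (f.appLE U V e t) := by
  rw [← CommRingCat.comp_apply, ← CommRingCat.comp_apply]
  refine congrArg (fun m => (CommRingCat.Hom.hom m) t) ?_
  simp only [resT, Scheme.Hom.appTop, Scheme.Hom.app_eq_appLE]
  exact (Scheme.Hom.appLE_comp_appLE _ _ _ _ _ _ _).trans
    ((appLE_congr (f.resLE_comp_ι e) _ _ _).trans (Scheme.Hom.appLE_comp_appLE _ _ _ _ _ _ _).symm)

lemma fnS_injective {T : Scheme.{u}} : Function.Injective (fnS : Γ(T, ⊤) → _) :=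
  Function.LeftInverse.injective valA1_fnS

lemma appTop_injective_of_epi {T T' : Scheme.{u}} (t : T' ⟶ T) [Epi t] :
    Function.Injective t.appTop := fun x y h =>
  fnS_injective ((cancel_epi t).1 (by rw [comp_fnS, comp_fnS, h]))

end Sections

variable {S : Scheme.{u}} {G X Y X' Y' : Over S} [GrpObj G] {a : AlgGrp.Action G X} {φ : X ⟶ Y}

/-- The action induced on a base change of an invariant morphism. -/
theorem exists_pullback_action (hinv : GIT.IsInvariant a φ) {g : Y' ⟶ Y} {p : X' ⟶ X} {q : X' ⟶ Y'}
    (sq : IsPullback p q φ g) :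
    ∃ a' : AlgGrp.Action G X', a'.act ≫ p = (G ◁ p) ≫ a.act ∧ GIT.IsInvariant a' q := by
  let l : G ⊗ X' ⟶ X' := sq.lift ((G ◁ p) ≫ a.act) (snd G X' ≫ q) (by
    rw [Category.assoc, show a.act ≫ φ = snd G X ≫ φ from hinv, ← Category.assoc, whiskerLeft_snd,
      Category.assoc, Category.assoc, sq.w])
  have h1 : l ≫ p = (G ◁ p) ≫ a.act := sq.lift_fst _ _ _
  have h2 : l ≫ q = snd G X' ≫ q := sq.lift_snd _ _ _
  refine ⟨⟨l, ?_, ?_⟩, h1, h2⟩
  · refine sq.hom_ext ?_ ?_
    · rw [Category.assoc, h1, ← whisker_exchange_assoc, a.one_act, leftUnitor_naturality]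
    · rw [Category.assoc, h2, whiskerRight_snd_assoc, leftUnitor_hom]
  · refine sq.hom_ext ?_ ?_
    · rw [Category.assoc, h1, ← whisker_exchange_assoc, a.mul_act, Category.assoc, Category.assoc, h1,
        ← MonoidalCategory.whiskerLeft_comp_assoc, h1, MonoidalCategory.whiskerLeft_comp_assoc,
        associator_naturality_right_assoc]
    · rw [Category.assoc, h2, whiskerRight_snd_assoc, Category.assoc, Category.assoc, h2,
        whiskerLeft_snd_assoc, h2, associator_hom_snd_snd_assoc]

/-- A geometric quotient which is universally so is universally open if the group is. -/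
theorem universallyOpen_of_isGeomQuot [UniversallyOpen a.act.left] (h : GIT.IsGeomQuot a φ) :
    UniversallyOpen φ.left := by
  refine ⟨fun X₁ Y₁ i₁ i₂ f H₀ => ?_⟩
  have H := H₀.flip
  have hq : IsQuotientMap f := h.subm _ _ _ H₀
  intro U hU
  rw [← hq.isOpen_preimage]
  let d : (G ⊗ X).left ⟶ Y.left := a.act.left ≫ φ.left
  let P := pullback d i₂
  have hd : (snd G X).left ≫ φ.left = d := h.inv.left.symm
  let σ' : P ⟶ X₁ := H.lift (pullback.fst d i₂ ≫ a.act.left) (pullback.snd d i₂)
    (by rw [Category.assoc]; exact pullback.condition)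
  let π' : P ⟶ X₁ := H.lift (pullback.fst d i₂ ≫ (snd G X).left) (pullback.snd d i₂)
    (by rw [Category.assoc, hd]; exact pullback.condition)
  have sqσ : IsPullback (pullback.fst d i₂) σ' a.act.left i₁ :=
    IsPullback.of_bot (by
      rw [show σ' ≫ f = pullback.snd d i₂ from H.lift_snd _ _ _]
      exact IsPullback.of_hasPullback d i₂) (H.lift_fst _ _ _).symm H
  haveI : UniversallyOpen σ' := MorphismProperty.of_isPullback sqσ ‹_›
  have key : f ⁻¹' (f '' U) = σ' '' (π' ⁻¹' U) := by
    ext x
    constructor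
    · rintro ⟨x', hx', he⟩
      obtain ⟨w, hw1, hw2⟩ := Scheme.Pullback.exists_preimage_pullback (f := f) (g := f) x x' he.symm
      have hc : (pullback.fst f f ≫ i₁) ≫ φ.left = (pullback.snd f f ≫ i₁) ≫ φ.left := by
        rw [Category.assoc, Category.assoc, H.w, ← Category.assoc, pullback.condition, Category.assoc]
      let c : pullback f f ⟶ pullback φ.left φ.left := pullback.lift _ _ hc
      obtain ⟨z, hz⟩ := h.orbit (c w)
      let Ψ := GIT.PsiY a φ h.inv
      obtain ⟨q, hq1, hq2⟩ := Scheme.Pullback.exists_preimage_pullback (f := Ψ) (g := c) z w hz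
      have e1 : pullback.fst Ψ c ≫ a.act.left = pullback.snd Ψ c ≫ pullback.fst f f ≫ i₁ := by
        have e := congrArg (· ≫ pullback.fst φ.left φ.left) (pullback.condition (f := Ψ) (g := c))
        simp only [Category.assoc, c, pullback.lift_fst] at e
        rwa [PsiY_fst] at e
      have e2 : pullback.fst Ψ c ≫ (snd G X).left = pullback.snd Ψ c ≫ pullback.snd f f ≫ i₁ := by
        have e := congrArg (· ≫ pullback.snd φ.left φ.left) (pullback.condition (f := Ψ) (g := c))
        simp only [Category.assoc, c, pullback.lift_snd] at e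
        rwa [PsiY_snd] at e
      let m : pullback Ψ c ⟶ P := pullback.lift (pullback.fst Ψ c) (pullback.snd Ψ c ≫ pullback.fst f f ≫ f)
        (by simp only [d, ← Category.assoc]; rw [e1]; simp only [Category.assoc, H.w])
      have m1 : m ≫ σ' = pullback.snd Ψ c ≫ pullback.fst f f := by
        apply H.hom_ext
        · rw [Category.assoc, Category.assoc, H.lift_fst, ← Category.assoc, pullback.lift_fst, e1]
        · rw [Category.assoc, Category.assoc, H.lift_snd]
          exact (pullback.lift_snd _ _ _).trans (by simp [pullback.condition])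
      have m2 : m ≫ π' = pullback.snd Ψ c ≫ pullback.snd f f := by
        apply H.hom_ext
        · rw [Category.assoc, Category.assoc, H.lift_fst, ← Category.assoc, pullback.lift_fst, e2]
        · rw [Category.assoc, Category.assoc, H.lift_snd]
          exact (pullback.lift_snd _ _ _).trans (by simp [pullback.condition])
      refine ⟨m q, ?_, ?_⟩
      · show (m ≫ π') q ∈ U
        rw [m2]
        show pullback.snd f f (pullback.snd Ψ c q) ∈ U
        rw [hq2, hw2]; exact hx'
      · show (m ≫ σ') q = x
        rw [m1]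
        show pullback.fst f f (pullback.snd Ψ c q) = x
        rw [hq2, hw1]
    · rintro ⟨p, hp, rfl⟩
      refine ⟨π' p, hp, ?_⟩
      show (π' ≫ f) p = (σ' ≫ f) p
      rw [H.lift_snd, H.lift_snd]
  rw [key]
  exact σ'.isOpenMap _ (hU.preimage π'.continuous)

/-- Descent of geometric quotients. -/
theorem isGeomQuot_of_baseChange (hinv : GIT.IsInvariant a φ) [QuasiCompact φ.left] {α : Y' ⟶ Y}
    [Flat α.left] [Surjective α.left] [QuasiCompact α.left] {pr : X' ⟶ X} {φ' : X' ⟶ Y'}
    (hpb : IsPullback pr φ' φ α) {a' : AlgGrp.Action G X'} (heq : a'.act ≫ pr = (G ◁ pr) ≫ a.act)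
    (h : GIT.IsGeomQuot a' φ') : GIT.IsGeomQuot a φ := by
  have sq : IsPullback pr.left φ'.left φ.left α.left := hpb.map (Over.forget S)
  haveI : QuasiCompact φ'.left := MorphismProperty.of_isPullback sq ‹_›
  refine ⟨hinv, fun y => ?_, fun z => ?_, ?_, fun U => ?_⟩
  · obtain ⟨y', rfl⟩ := α.left.surjective y
    obtain ⟨x', rfl⟩ := h.surj y'
    exact ⟨pr.left x', congrArg (fun m : X'.left ⟶ Y.left => m x') sq.w⟩
  · obtain ⟨y', hy'⟩ := α.left.surjective ((pullback.fst φ.left φ.left ≫ φ.left) z)
    obtain ⟨w, hw1, -⟩ := Scheme.Pullback.exists_preimage_pullback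
      (f := pullback.fst φ.left φ.left ≫ φ.left) (g := α.left) z y' hy'.symm
    let Q := pullback (pullback.fst φ.left φ.left ≫ φ.left) α.left
    let l₁ : Q ⟶ X'.left := sq.lift (pullback.fst _ _ ≫ pullback.fst _ _) (pullback.snd _ _)
      (by rw [Category.assoc]; exact pullback.condition)
    let l₂ : Q ⟶ X'.left := sq.lift (pullback.fst _ _ ≫ pullback.snd _ _) (pullback.snd _ _)
      (by rw [Category.assoc, ← pullback.condition]; exact pullback.condition)
    let l : Q ⟶ pullback φ'.left φ'.left := pullback.lift l₁ l₂ (by rw [sq.lift_snd, sq.lift_snd])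
    obtain ⟨v, hv⟩ := h.orbit (l w)
    let r : pullback φ'.left φ'.left ⟶ pullback φ.left φ.left :=
      pullback.map _ _ _ _ pr.left pr.left α.left sq.w.symm sq.w.symm
    have e1 : GIT.PsiY a' φ' h.inv ≫ r = (G ◁ pr).left ≫ GIT.PsiY a φ hinv := by
      apply pullback.hom_ext
      · simp only [r, Category.assoc, pullback.lift_fst, PsiY_fst]
        rw [← Category.assoc, PsiY_fst, ← Over.comp_left, ← Over.comp_left, heq]
      · simp only [r, Category.assoc, pullback.lift_snd, PsiY_snd]
        rw [← Category.assoc, PsiY_snd, ← Over.comp_left, ← Over.comp_left, whiskerLeft_snd]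
    have e2 : l ≫ r = pullback.fst _ _ := by
      apply pullback.hom_ext
      · simp only [r, Category.assoc, pullback.lift_fst]
        rw [← Category.assoc, pullback.lift_fst, sq.lift_fst]
      · simp only [r, Category.assoc, pullback.lift_snd]
        rw [← Category.assoc, pullback.lift_snd, sq.lift_fst]
    refine ⟨(G ◁ pr).left v, ?_⟩
    calc _ = (GIT.PsiY a' φ' h.inv ≫ r) v := (congrArg (fun m : _ ⟶ pullback φ.left φ.left => m v) e1).symm
      _ = (l ≫ r) w := congrArg r hv
      _ = z := (congrArg (fun m : _ ⟶ pullback φ.left φ.left => m w) e2).trans hw1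
  · intro X₁ Y₁ i₁ i₂ f H₀
    have H := H₀.flip
    let β := pullback.fst i₂ α.left
    have hβ : IsQuotientMap β := Flat.isQuotientMap_of_surjective β
    let X₁' := pullback f β
    let k : X₁' ⟶ X'.left := sq.lift (pullback.fst f β ≫ i₁) (pullback.snd f β ≫ pullback.snd i₂ α.left)
      (by rw [Category.assoc, H.w, ← Category.assoc, pullback.condition, Category.assoc,
        Category.assoc, pullback.condition])
    have H' : IsPullback k (pullback.snd f β) φ'.left (pullback.snd i₂ α.left) := by
      refine IsPullback.of_right ?_ (sq.lift_snd _ _ _) sq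
      rw [show k ≫ pr.left = pullback.fst f β ≫ i₁ from sq.lift_fst _ _ _, ← pullback.condition]
      exact (IsPullback.of_hasPullback f β).paste_horiz H
    have hq : IsQuotientMap (pullback.fst f β ≫ f : X₁' ⟶ Y₁) := by
      rw [pullback.condition]
      exact hβ.comp (h.subm _ _ _ H'.flip)
    exact IsQuotientMap.of_comp (pullback.fst f β).continuous f.continuous hq
  · set O := φ.left ⁻¹ᵁ U with hO
    set U' := α.left ⁻¹ᵁ U with hU'
    set O' := φ'.left ⁻¹ᵁ U' with hO'
    have hO'O : O' = pr.left ⁻¹ᵁ O := by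
      rw [hO', hU', hO, ← Scheme.Hom.comp_preimage, ← Scheme.Hom.comp_preimage, sq.w]
    let r := pr.left.resLE O O' hO'O.le
    let p := φ.left.resLE U O le_rfl
    let q := α.left.resLE U U' le_rfl
    let p' := φ'.left.resLE U' O' le_rfl
    have sqR : IsPullback r p' p q := Scheme.Hom.isPullback_resLE sq le_rfl le_rfl (le_antisymm (le_inf hO'O.le le_rfl) inf_le_right)
    haveI : QuasiCompact q := by rw [show q = α.left ∣_ U from Scheme.Hom.resLE_eq_morphismRestrict _]; exact IsZariskiLocalAtTarget.restrict ‹_› U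
    haveI : Flat q := by rw [show q = α.left ∣_ U from Scheme.Hom.resLE_eq_morphismRestrict _]; exact IsZariskiLocalAtTarget.restrict ‹_› U
    haveI : Surjective q := by rw [show q = α.left ∣_ U from Scheme.Hom.resLE_eq_morphismRestrict _]; exact IsZariskiLocalAtTarget.restrict ‹_› U
    have hp'eq : p' = φ'.left ∣_ U' := Scheme.Hom.resLE_eq_morphismRestrict _
    haveI : QuasiCompact p' := by rw [hp'eq]; exact IsZariskiLocalAtTarget.restrict ‹_› U'
    have gp' : Good p' := hp'eq ▸ Good.restrict (good h) U'
    haveI : Surjective r := MorphismProperty.of_isPullback sqR.flip ‹Surjective q›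
    haveI : Flat r := MorphismProperty.of_isPullback sqR.flip ‹Flat q›
    haveI : QuasiCompact r := MorphismProperty.of_isPullback sqR.flip ‹QuasiCompact q›
    refine ⟨fun x y hxy => ?_, Set.ext fun f => ⟨?_, fun hf => ?_⟩⟩
    · apply (resT_bijective U).1
      apply appTop_injective_of_epi q
      apply gp'.app ⊤
      have key2 : ∀ z, p'.appTop (q.appTop (resT U z)) =
          resT O' (pr.left.appLE O O' hO'O.le (φ.left.app U z)) := by
        intro z
        rw [← CommRingCat.comp_apply q.appTop, ← Scheme.Hom.comp_appTop, ← sqR.w,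
          Scheme.Hom.comp_appTop, CommRingCat.comp_apply, resLE_resT φ.left le_rfl z,
          resLE_resT pr.left hO'O.le, Scheme.Hom.app_eq_appLE]
      show p'.appTop (q.appTop _) = p'.appTop (q.appTop _)
      rw [key2, key2, hxy]
    · rintro ⟨t, rfl⟩
      exact isInvSection_app hinv U t
    · set f' := pr.left.appLE O O' hO'O.le f
      have hf' : GIT.IsInvSection a' φ' U' f' := by
        set V := a.act.left ⁻¹ᵁ O ⊓ (snd G X).left ⁻¹ᵁ O
        set V' := a'.act.left ⁻¹ᵁ O' ⊓ (snd G X').left ⁻¹ᵁ O'
        have w1 : a'.act.left ≫ pr.left = (G ◁ pr).left ≫ a.act.left := by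
          rw [← Over.comp_left, ← Over.comp_left, heq]
        have w2 : (snd G X').left ≫ pr.left = (G ◁ pr).left ≫ (snd G X).left := by
          rw [← Over.comp_left, ← Over.comp_left, whiskerLeft_snd]
        have hV : V' ≤ (G ◁ pr).left ⁻¹ᵁ V := fun z hz =>
          ⟨show ((G ◁ pr).left ≫ a.act.left) z ∈ O by rw [← w1]; exact hO'O.le hz.1,
            show ((G ◁ pr).left ≫ (snd G X).left) z ∈ O by rw [← w2]; exact hO'O.le hz.2⟩
        have key := congrArg ((G ◁ pr).left.appLE V V' hV) (show _ = _ from hf)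
        rw [← CommRingCat.comp_apply, ← CommRingCat.comp_apply] at key
        show a'.act.left.appLE O' V' inf_le_left (pr.left.appLE O O' hO'O.le f) =
          (snd G X').left.appLE O' V' inf_le_right (pr.left.appLE O O' hO'O.le f)
        rw [← CommRingCat.comp_apply, ← CommRingCat.comp_apply]
        have ea := Scheme.Hom.appLE_comp_appLE a'.act.left pr.left O O' V' hO'O.le inf_le_left
        have eb := Scheme.Hom.appLE_comp_appLE (snd G X').left pr.left O O' V' hO'O.le inf_le_right
        have ec := Scheme.Hom.appLE_comp_appLE (G ◁ pr).left a.act.left O V V' inf_le_left hV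
        have ed := Scheme.Hom.appLE_comp_appLE (G ◁ pr).left (snd G X).left O V V' inf_le_right hV
        rw [ea, eb, appLE_congr w1, appLE_congr w2]
        exact (congrArg (fun m => (CommRingCat.Hom.hom m) f) ec.symm).trans
          (key.trans (congrArg (fun m => (CommRingCat.Hom.hom m) f) ed))
      obtain ⟨t', ht'⟩ := (h.sections U').2.ge hf'
      have hfac : p' ≫ fnS (resT U' t') = r ≫ fnS (resT O f) := by
        rw [comp_fnS, comp_fnS, resLE_resT, resLE_resT, ← Scheme.Hom.app_eq_appLE, ht']
      have hdesc : ∀ {W : Scheme.{u}} (g₁ g₂ : W ⟶ U'.toScheme), g₁ ≫ q = g₂ ≫ q →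
          g₁ ≫ fnS (resT U' t') = g₂ ≫ fnS (resT U' t') := by
        intro W g₁ g₂ hg
        let π₁ := pullback.fst q q
        haveI : Flat π₁ := MorphismProperty.pullback_fst _ _ ‹Flat q›
        let π₂ := pullback.snd q q
        let P := pullback p' π₁
        let p'' : P ⟶ pullback q q := pullback.snd p' π₁
        have gp'' : Good p'' := by
          haveI : Surjective p' := ⟨gp'.surj⟩
          exact ⟨(MorphismProperty.pullback_snd p' π₁ ‹Surjective p'›).surj,
            injective_app_of_isPullback (IsPullback.of_hasPullback p' π₁) gp'.app⟩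
        let e₂ : P ⟶ O'.toScheme := sqR.lift (pullback.fst p' π₁ ≫ r) (p'' ≫ π₂)
          (by rw [Category.assoc, Category.assoc, sqR.w, ← Category.assoc, pullback.condition,
            Category.assoc, pullback.condition])
        have key : π₁ ≫ fnS (resT U' t') = π₂ ≫ fnS (resT U' t') := by
          refine gp''.cancel ?_
          calc p'' ≫ π₁ ≫ fnS (resT U' t') = pullback.fst p' π₁ ≫ p' ≫ fnS (resT U' t') :=
                (pullback.condition_assoc _).symm
            _ = e₂ ≫ r ≫ fnS (resT O f) := by
                rw [hfac, ← Category.assoc, ← Category.assoc]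
                exact congrArg (· ≫ _) (sqR.lift_fst _ _ _).symm
            _ = e₂ ≫ p' ≫ fnS (resT U' t') := by rw [hfac]
            _ = p'' ≫ π₂ ≫ fnS (resT U' t') := by rw [← Category.assoc, sqR.lift_snd, Category.assoc]
        have k2 := congrArg (pullback.lift g₁ g₂ hg ≫ ·) key
        simp only [π₁, π₂, ← Category.assoc, pullback.lift_fst, pullback.lift_snd] at k2
        exact k2
      obtain ⟨t, ht⟩ := (resT_bijective U).2 (valA1 (EffectiveEpi.desc q (fnS (resT U' t')) hdesc))
      refine ⟨t, (resT_bijective O).1 (appTop_injective_of_epi r (fnS_injective ?_))⟩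
      have e : q.appTop (resT U t) = resT U' t' := by
        rw [ht, ← valA1_comp, EffectiveEpi.fac, valA1_fnS]
      rw [Scheme.Hom.app_eq_appLE, ← resLE_resT φ.left le_rfl t,
        show fnS (r.appTop (resT O f)) = p' ≫ fnS (resT U' t') by rw [hfac, comp_fnS], comp_fnS]
      apply congrArg fnS
      have key3 := congrArg (fun m : O'.toScheme ⟶ U.toScheme => m.appTop (resT U t)) sqR.w
      simp only [Scheme.Hom.comp_appTop, CommRingCat.comp_apply] at key3
      rw [← e]
      exact key3

/-- Descent of universal geometric quotients. -/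
theorem isUnivGeomQuot_of_baseChange (hinv : GIT.IsInvariant a φ) [QuasiCompact φ.left] {α : Y' ⟶ Y}
    [Flat α.left] [Surjective α.left] [QuasiCompact α.left] {pr : X' ⟶ X} {φ' : X' ⟶ Y'}
    (hpb : IsPullback pr φ' φ α) {a' : AlgGrp.Action G X'} (heq : a'.act ≫ pr = (G ◁ pr) ≫ a.act)
    (h : GIT.IsUnivGeomQuot a' φ') : GIT.IsUnivGeomQuot a φ := by
  refine ⟨isGeomQuot_of_baseChange hinv hpb heq h.1, ?_⟩
  intro X₁ Y₁ pr₁ φ₁ g _ sq₁ a₁ e₁ hi₁
  let β := pullback.fst g α
  have sqβ : IsPullback β.left (pullback.snd g α).left g.left α.left :=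
    (IsPullback.of_hasPullback g α).map (Over.forget S)
  haveI : Flat β.left := MorphismProperty.of_isPullback sqβ.flip ‹Flat α.left›
  haveI : Surjective β.left := MorphismProperty.of_isPullback sqβ.flip ‹Surjective α.left›
  haveI : QuasiCompact β.left := MorphismProperty.of_isPullback sqβ.flip ‹QuasiCompact α.left›
  haveI : QuasiCompact φ₁.left := MorphismProperty.of_isPullback (sq₁.map (Over.forget S)) ‹QuasiCompact φ.left›
  have sq₂ := IsPullback.of_hasPullback φ₁ β
  obtain ⟨a₂, e₂, hi₂⟩ := exists_pullback_action hi₁ sq₂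
  refine isGeomQuot_of_baseChange hi₁ sq₂ e₂ ?_
  let pr₂ := hpb.lift (pullback.fst φ₁ β ≫ pr₁) (pullback.snd φ₁ β ≫ pullback.snd g α)
    (by rw [Category.assoc, sq₁.w, ← Category.assoc, pullback.condition, Category.assoc,
      Category.assoc, pullback.condition])
  have l1 : pr₂ ≫ pr = pullback.fst φ₁ β ≫ pr₁ := hpb.lift_fst _ _ _
  have l2 : pr₂ ≫ φ' = pullback.snd φ₁ β ≫ pullback.snd g α := hpb.lift_snd _ _ _
  refine h.2 pr₂ (pullback.snd φ₁ β) (pullback.snd g α) trivial ?_ a₂ ?_ hi₂
  · refine IsPullback.of_right ?_ l2 hpb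
    rw [l1, ← pullback.condition]
    exact sq₂.paste_horiz sq₁
  · refine hpb.hom_ext ?_ ?_
    · simp only [Category.assoc, l1, heq]
      rw [← Category.assoc, e₂, Category.assoc, e₁, ← MonoidalCategory.whiskerLeft_comp_assoc,
        ← MonoidalCategory.whiskerLeft_comp_assoc, l1]
    · simp only [Category.assoc, l2, show a'.act ≫ φ' = snd G X' ≫ φ' from h.1.inv]
      rw [← Category.assoc, hi₂, whiskerLeft_snd_assoc, l2, Category.assoc]

end Groth.Agent.GITQuot
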