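import Groth.Prelude.Def_W4bk4git07Quot
import Mathlib.AlgebraicGeometry.Gluing
import Mathlib.AlgebraicGeometry.Restrict
import Mathlib.AlgebraicGeometry.PullbackCarrier
import Mathlib.AlgebraicGeometry.Morphisms.UnderlyingMap

/-! # Geometric quotients are categorical quotients. -/

set_option autoImplicit false
set_option linter.style.haveILetI false
set_option backward.isDefEq.respectTransparency.types false
universe u

open CategoryTheory Limits MonoidalCategory CartesianMonoidalCategory AlgebraicGeometry Topology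

noncomputable section

namespace Groth.Agent.GITQuot

/-- Surjective with injective comorphism on every open. -/
structure Good {X Y : Scheme.{u}} (f : X ⟶ Y) : Prop where
  surj : Function.Surjective f
  app : ∀ U, Function.Injective (f.app U)

theorem Good.cancel {X Y Z : Scheme.{u}} {f : X ⟶ Y} (hf : Good f) {a b : Y ⟶ Z} (h : f ≫ a = f ≫ b) : a = b := by
  have hb : a.base = b.base := by
    ext y
    obtain ⟨x, rfl⟩ := hf.surj y
    exact congrArg (fun m : X ⟶ Z => m x) h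
  refine Scheme.Hom.ext hb fun U => ?_
  ext s
  apply hf.app
  have h2 := congr($(Scheme.Hom.congr_app h U) s)
  simp only [Scheme.Hom.comp_app] at h2
  change (f.app (a ⁻¹ᵁ U)) (a.app U s) = X.presheaf.map _ (f.app (b ⁻¹ᵁ U) (b.app U s)) at h2
  simp only [CommRingCat.comp_apply]
  rw [← CommRingCat.comp_apply (Y.presheaf.map _) (f.app _), f.naturality, CommRingCat.comp_apply]
  erw [h2]
  rw [
    ← CommRingCat.comp_apply (X.presheaf.map _), ← Functor.map_comp]
  exact congr($(X.presheaf.map_id _) _)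

theorem Good.restrict {X Y : Scheme.{u}} {f : X ⟶ Y} (hf : Good f) (U : Y.Opens) : Good (f ∣_ U) := by
  constructor
  · intro y
    obtain ⟨x, hx⟩ := hf.surj y.1
    refine ⟨⟨x, show f x ∈ U from hx ▸ y.2⟩, Subtype.ext ?_⟩
    show ((f ∣_ U) ≫ U.ι) _ = _
    rw [morphismRestrict_ι]
    exact hx
  · intro W
    rw [morphismRestrict_app]
    exact (ConcreteCategory.bijective_of_isIso (X.presheaf.map _)).1.comp (hf.app _)

theorem Good.cancel_open {X Y W Z : Scheme.{u}} {f : X ⟶ Y} (hf : Good f) (g : W ⟶ Y) [IsOpenImmersion g]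
    {a b : W ⟶ Z} (h : ∀ {T : Scheme.{u}} (t : T ⟶ W) (x : T ⟶ X), x ≫ f = t ≫ g → t ≫ a = t ≫ b) : a = b := by
  rw [← cancel_epi g.isoOpensRange.inv]
  refine (hf.restrict g.opensRange).cancel ?_
  rw [← Category.assoc, ← Category.assoc]
  refine h _ (f ⁻¹ᵁ g.opensRange).ι ?_
  rw [Category.assoc, Scheme.Hom.isoOpensRange_inv_comp, morphismRestrict_ι]

variable {S : Scheme.{u}} {G X Y Z : Over S} [GrpObj G] {a : AlgGrp.Action G X} {φ : X ⟶ Y}

theorem good (h : GIT.IsGeomQuot a φ) : Good φ.left := ⟨h.surj, fun U => (h.sections U).1⟩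

theorem isQuotientMap (h : GIT.IsGeomQuot a φ) : IsQuotientMap φ.left.base :=
  MorphismProperty.universally_le (topologically @IsQuotientMap) _ h.subm

/-- An invariant morphism is constant on the fibres of a geometric quotient. -/
theorem eq_of_invariant (h : GIT.IsGeomQuot a φ) {ψ : X ⟶ Z} (hψ : GIT.IsInvariant a ψ) {x x' : X.left}
    (hx : φ.left x = φ.left x') : ψ.left x = ψ.left x' := by
  obtain ⟨p, hp₁, hp₂⟩ := Scheme.Pullback.exists_preimage_pullback x x' hx
  obtain ⟨q, hq⟩ := h.orbit p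
  have e1 : a.act.left q = x := by
    rw [← hp₁, ← hq, ← Scheme.Hom.comp_apply]
    exact (congrArg (fun m : (G ⊗ X).left ⟶ X.left => m q) (pullback.lift_fst _ _ _)).symm
  have e2 : (snd G X).left q = x' := by
    rw [← hp₂, ← hq, ← Scheme.Hom.comp_apply]
    exact (congrArg (fun m : (G ⊗ X).left ⟶ X.left => m q) (pullback.lift_snd _ _ _)).symm
  rw [← e1, ← e2, ← Scheme.Hom.comp_apply, ← Scheme.Hom.comp_apply, hψ.left]

/-- The open of the quotient below the preimage of an open. -/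
def below (h : GIT.IsGeomQuot a φ) {ψ : X ⟶ Z} (hψ : GIT.IsInvariant a ψ) (V : Z.left.Opens) : Y.left.Opens :=
  ⟨φ.left.base '' (ψ.left ⁻¹ᵁ V : Set X.left), by
    rw [← (isQuotientMap h).isOpen_preimage]
    convert (ψ.left ⁻¹ᵁ V).2 using 1
    ext x
    exact ⟨fun ⟨x', hx', e⟩ => show ψ.left x ∈ V by rw [← eq_of_invariant h hψ e]; exact hx', fun hx => ⟨x, hx, rfl⟩⟩⟩

theorem preimage_below (h : GIT.IsGeomQuot a φ) {ψ : X ⟶ Z} (hψ : GIT.IsInvariant a ψ) (V : Z.left.Opens) :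
    φ.left ⁻¹ᵁ below h hψ V = ψ.left ⁻¹ᵁ V := by
  ext x
  exact ⟨fun ⟨x', hx', e⟩ => show ψ.left x ∈ V by rw [← eq_of_invariant h hψ e]; exact hx', fun hx => ⟨x, hx, rfl⟩⟩

theorem exists_local (hs : ∀ U : Y.left.Opens, Function.Injective (φ.left.app U) ∧
      Set.range (φ.left.app U) = {f | GIT.IsInvSection a φ U f})
    {ψ : X ⟶ Z} (hψ : GIT.IsInvariant a ψ) {V : Z.left.Opens} (hV : IsAffineOpen V) (U : Y.left.Opens)
    (e : φ.left ⁻¹ᵁ U ≤ ψ.left ⁻¹ᵁ V) :
    ∃ g : U.toScheme ⟶ Z.left, φ.left ∣_ U ≫ g = (φ.left ⁻¹ᵁ U).ι ≫ ψ.left := by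
  let π := ψ.left.appLE V (φ.left ⁻¹ᵁ U) e
  have hmem : ∀ s, π s ∈ (φ.left.app U).hom.range := by
    intro s
    show π s ∈ Set.range (φ.left.app U)
    rw [(hs U).2]
    show _ = _
    simp only [π, ← CommRingCat.comp_apply]
    congr 1
    simp only [Scheme.Hom.appLE_comp_appLE, hψ.left]
  let eU := RingEquiv.ofBijective (φ.left.app U).hom.rangeRestrict
    ⟨fun x y hxy => (hs U).1 (congrArg Subtype.val hxy), (φ.left.app U).hom.rangeRestrict_surjective⟩
  let ρ : Γ(Z.left, V) ⟶ Γ(Y.left, U) :=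
    CommRingCat.ofHom (eU.symm.toRingHom.comp (π.hom.codRestrict _ hmem))
  have hρ : ρ ≫ φ.left.app U = π := by
    ext s
    exact congrArg Subtype.val (eU.apply_symm_apply ⟨π s, hmem s⟩)
  refine ⟨U.toSpecΓ ≫ Spec.map ρ ≫ hV.fromSpec, ?_⟩
  rw [← Scheme.Opens.toSpecΓ_naturality_assoc, ← Spec.map_comp_assoc, hρ]
  rw [Scheme.Opens.toSpecΓ_SpecMap_appLE_assoc, hV.toSpecΓ_fromSpec, Scheme.Hom.resLE_comp_ι]

/-- **Gluing criterion for categorical quotients.** -/
theorem isCatQuot_of_cover (hi : GIT.IsInvariant a φ) (hsurj : Function.Surjective φ.left.base)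
    (hs : ∀ U : Y.left.Opens, Function.Injective (φ.left.app U) ∧
      Set.range (φ.left.app U) = {f | GIT.IsInvSection a φ U f})
    (hc : ∀ (Z : Over S) (ψ : X ⟶ Z), GIT.IsInvariant a ψ → ∀ y : Y.left, ∃ (U : Y.left.Opens) (V : Z.left.Opens),
      IsAffineOpen V ∧ y ∈ U ∧ φ.left ⁻¹ᵁ U ≤ ψ.left ⁻¹ᵁ V) : GIT.IsCatQuot a φ := by
  have hgood : Good φ.left := ⟨hsurj, fun U => (hs U).1⟩
  refine ⟨hi, fun Z ψ hψ => ?_⟩
  choose U V hV hyU hUV using hc Z ψ hψ
  choose g hg using fun y => exists_local hs hψ (hV y) (U y) (hUV y)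
  let 𝒰 : Y.left.OpenCover := Scheme.Cover.mkOfCovers Y.left (fun y => (U y).toScheme)
    (fun y => (U y).ι) (fun y => ⟨y, ⟨y, hyU y⟩, rfl⟩) (fun y => inferInstance)
  have key : ∀ (i : Y.left) {T : Scheme.{u}} (t : T ⟶ (U i).toScheme) (x : T ⟶ X.left),
      x ≫ φ.left = t ≫ (U i).ι → t ≫ g i = x ≫ ψ.left := by
    intro i T t x hx
    let l : T ⟶ (φ.left ⁻¹ᵁ U i).toScheme := (isPullback_morphismRestrict φ.left _).lift t x hx.symm
    have h1 : l ≫ φ.left ∣_ U i = t := (isPullback_morphismRestrict φ.left _).lift_fst _ _ _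
    have h2 : l ≫ (φ.left ⁻¹ᵁ U i).ι = x := (isPullback_morphismRestrict φ.left _).lift_snd _ _ _
    rw [← h1, Category.assoc, hg, reassoc_of% h2]
  have hcompat : ∀ i j : 𝒰.I₀, pullback.fst (𝒰.f i) (𝒰.f j) ≫ g i = pullback.snd (𝒰.f i) (𝒰.f j) ≫ g j := by
    intro i j
    refine hgood.cancel_open (pullback.fst (𝒰.f i) (𝒰.f j) ≫ 𝒰.f i) fun {T} t x hx => ?_
    rw [← Category.assoc, ← Category.assoc]
    exact (key i (t ≫ pullback.fst _ _) x (hx.trans (Category.assoc _ _ _).symm)).trans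
      (key j (t ≫ pullback.snd _ _) x (by rw [hx, Category.assoc]; exact congrArg (t ≫ ·) pullback.condition)).symm
  have hg' : φ.left ≫ 𝒰.glueMorphisms g hcompat = ψ.left := by
    refine Scheme.Cover.hom_ext (𝒰.pullback₁ φ.left) _ _ fun i => ?_
    show pullback.fst φ.left (𝒰.f i) ≫ _ = pullback.fst φ.left (𝒰.f i) ≫ _
    rw [← Category.assoc, pullback.condition, Category.assoc, Scheme.Cover.ι_glueMorphisms]
    exact key i _ _ pullback.condition
  have hw : 𝒰.glueMorphisms g hcompat ≫ Z.hom = Y.hom := by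
    refine hgood.cancel ?_
    rw [← Category.assoc, hg', Over.w, Over.w]
  refine ⟨Over.homMk _ hw, Over.OverMorphism.ext hg', fun χ hχ => Over.OverMorphism.ext (hgood.cancel ?_)⟩
  rw [← Over.comp_left, hχ]
  exact hg'.symm

/-- **A geometric quotient is a categorical quotient.** -/
theorem isCatQuot (h : GIT.IsGeomQuot a φ) : GIT.IsCatQuot a φ := by
  refine isCatQuot_of_cover h.inv h.surj h.sections fun Z ψ hψ y => ?_
  obtain ⟨x, rfl⟩ := h.surj y
  obtain ⟨V, hV, hxV, -⟩ := exists_isAffineOpen_mem_and_subset (show ψ.left x ∈ (⊤ : Z.left.Opens) from trivial)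
  exact ⟨below h hψ V, V, hV, ⟨x, hxV, rfl⟩, (preimage_below h hψ V).le⟩

end Groth.Agent.GITQuot
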