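import Groth.Agent.Lib.GITQuot.Fpqc
import Groth.Agent.Lib.AlgSpace.Quot

/-! # fppf quotients by group actions are geometric quotients. -/

set_option autoImplicit false
set_option linter.style.haveILetI false
set_option backward.isDefEq.respectTransparency.types false
universe u

open CategoryTheory Limits MonoidalCategory CartesianMonoidalCategory MonObj AlgebraicGeometry Topology Opposite

noncomputable section

namespace Groth.Agent.GITQuot

variable {S : Scheme.{u}} {G X Y : Over S} [GrpObj G] {a : AlgGrp.Action G X} {φ : X ⟶ Y}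

section Rel

variable (a)

/-- Two points in one orbit. -/
def Rel (T : Over S) (x y : T ⟶ X) : Prop := ∃ r : T ⟶ G ⊗ X, r ≫ snd G X = x ∧ r ≫ a.act = y

theorem one_act' {T : Over S} (x : T ⟶ X) : lift (1 : T ⟶ G) x ≫ a.act = x := by
  have := lift (toUnit T) x ≫= a.one_act
  rw [lift_whiskerRight_assoc, lift_leftUnitor_hom] at this
  rwa [Hom.one_def]

theorem mul_act' {T : Over S} (g g' : T ⟶ G) (x : T ⟶ X) :
    lift (g * g') x ≫ a.act = lift g (lift g' x ≫ a.act) ≫ a.act := by
  have := lift (lift g g') x ≫= a.mul_act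
  rw [lift_whiskerRight_assoc, lift_lift_associator_hom_assoc, lift_whiskerLeft_assoc] at this
  rwa [Hom.mul_def]

theorem rel_equivalence (T : Over S) : _root_.Equivalence (Rel a T) where
  refl x := ⟨lift 1 x, lift_snd _ _, one_act' a x⟩
  symm := by
    rintro x y ⟨r, rfl, rfl⟩
    refine ⟨lift (r ≫ fst G X)⁻¹ (r ≫ a.act), lift_snd _ _, ?_⟩
    conv_lhs => rw [show r ≫ a.act = lift (r ≫ fst G X) (r ≫ snd G X) ≫ a.act by
      rw [← comp_lift, lift_fst_snd, Category.comp_id]]
    rw [← mul_act', inv_mul_cancel, one_act']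
  trans := by
    rintro x y z ⟨r, rfl, rfl⟩ ⟨r', hr', rfl⟩
    refine ⟨lift ((r' ≫ fst G X) * (r ≫ fst G X)) (r ≫ snd G X), lift_snd _ _, ?_⟩
    rw [mul_act', ← comp_lift, lift_fst_snd, Category.comp_id, ← hr', ← comp_lift, lift_fst_snd, Category.comp_id]

/-- The setoid of orbits. -/
def relSetoid (T : Over S) : Setoid (T ⟶ X) := ⟨Rel a T, rel_equivalence a T⟩

/-- The presheaf of orbits. -/
def orbitPresheaf : (Over S)ᵒᵖ ⥤ Type (u + 1) where
  obj T := ULift.{u + 1} (Quotient (relSetoid a T.unop))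
  map {T T'} f := TypeCat.ofHom fun x => ⟨Quotient.map (sa := relSetoid a T.unop)
    (sb := relSetoid a T'.unop) (fun b => f.unop ≫ b) (by
      rintro x y ⟨r, rfl, rfl⟩
      exact ⟨f.unop ≫ r, Category.assoc _ _ _, Category.assoc _ _ _⟩) x.down⟩
  map_id T := by
    ext ⟨x⟩
    induction x using Quotient.ind with
    | _ a => simp
  map_comp f g := by
    ext ⟨x⟩
    induction x using Quotient.ind with
    | _ a => simp

/-- The map to the presheaf of orbits. -/
def orbitPresheafπ : ((AlgSp.yon S).obj X).obj ⟶ orbitPresheaf a where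
  app T := TypeCat.ofHom fun x => ⟨Quotient.mk (relSetoid a T.unop) x.down⟩
  naturality _ _ _ := rfl

variable {a}

open AlgSp in
theorem local_rel {F : Sp S} {p : (yon S).obj X ⟶ F}
    (w : (yon S).map a.act ≫ p = (yon S).map (snd G X) ≫ p) (hc : IsColimit (Cofork.ofπ p w))
    {T : Over S} (x y : T ⟶ X) (e : (yon S).map x ≫ p = (yon S).map y ≫ p) :
    ∃ (V : Over S) (v : V ⟶ T) (r : V ⟶ G ⊗ X), Flat v.left ∧ Surjective v.left ∧
      LocallyOfFinitePresentation v.left ∧ r ≫ snd G X = v ≫ x ∧ r ≫ a.act = v ≫ y := by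
  let Q := orbitPresheaf a
  let Q' : Sp S := (presheafToSheaf (AlgSp.J S) (Type (u + 1))).obj Q
  let q : (yon S).obj X ⟶ Q' := ObjectProperty.homMk (orbitPresheafπ a ≫ toSheafify (AlgSp.J S) Q)
  have hq : (yon S).map a.act ≫ q = (yon S).map (snd G X) ≫ q := by
    apply ObjectProperty.hom_ext
    change ((yon S).map a.act).hom ≫ orbitPresheafπ a ≫ toSheafify (AlgSp.J S) Q =
      ((yon S).map (snd G X)).hom ≫ orbitPresheafπ a ≫ toSheafify (AlgSp.J S) Q
    rw [← Category.assoc, ← Category.assoc]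
    congr 1
    ext U ⟨r⟩
    exact congrArg ULift.up (Quotient.sound ((rel_equivalence a _).symm ⟨r, rfl, rfl⟩))
  obtain ⟨l, hl⟩ := Cofork.IsColimit.desc' hc q hq
  have key : ∀ ⦃T : Over S⦄ (x y : T ⟶ X), (yon S).map x ≫ p = (yon S).map y ≫ p →
      ∃ K ∈ AlgSp.J S T, ∀ ⦃T' : Over S⦄ (f : T' ⟶ T), K f → Rel a T' (f ≫ x) (f ≫ y) := by
    intro T x y e
    replace e : (yon S).map x ≫ q = (yon S).map y ≫ q := by
      rw [← hl]
      exact ((Category.assoc _ _ _).symm.trans (congrArg (· ≫ l) e)).trans (Category.assoc _ _ _)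
    have e' : (toSheafify (AlgSp.J S) Q).app (op T) ⟨Quotient.mk (relSetoid a T) x⟩ =
        (toSheafify (AlgSp.J S) Q).app (op T) ⟨Quotient.mk (relSetoid a T) y⟩ := by
      have := congrArg (fun g : (yon S).obj T ⟶ Q' => g.hom.app (op T) ⟨𝟙 T⟩) e
      simpa [q, orbitPresheafπ] using! this
    exact ⟨_, Presheaf.equalizerSieve_mem (AlgSp.J S) (toSheafify (AlgSp.J S) Q) _ _ e',
      fun T' f hf => Quotient.exact (congrArg ULift.down hf)⟩
  let c := pullback.lift (f := p) (g := p) ((yon S).map (snd G X)) ((yon S).map a.act) w.symm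
  haveI : Sheaf.IsLocallySurjective c := by
    refine ⟨fun {U} z => ?_⟩
    obtain ⟨z, rfl⟩ := (AlgSpace.sect (T := U) (F := pullback p p)).surjective z
    obtain ⟨x, hx⟩ := (yon S).map_surjective (z ≫ pullback.fst p p)
    obtain ⟨y, hy⟩ := (yon S).map_surjective (z ≫ pullback.snd p p)
    obtain ⟨K, hK, hKr⟩ := key x y (by rw [hx, hy, Category.assoc, Category.assoc, pullback.condition])
    refine (AlgSp.J S).superset_covering (fun T' f hf => ?_) hK
    obtain ⟨r, h1, h2⟩ := hKr f hf
    have h3 : (yon S).map r ≫ c = (yon S).map f ≫ z := by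
      apply pullback.hom_ext
      · rw [Category.assoc, pullback.lift_fst, Category.assoc, ← hx, ← Functor.map_comp, ← Functor.map_comp, h1]
      · rw [Category.assoc, pullback.lift_snd, Category.assoc, ← hy, ← Functor.map_comp, ← Functor.map_comp, h2]
    exact AlgSpace.imageSieve_of_fac c z f ((yon S).map r) h3
  obtain ⟨V, v, l, h1, h2, h3, h4⟩ := AlgSpace.exists_single_cover_lift c (pullback.lift _ _ e)
  obtain ⟨r, rfl⟩ := (yon S).map_surjective l
  refine ⟨V, v, r, h1, h2, h3, (yon S).map_injective ?_, (yon S).map_injective ?_⟩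
  · have : ((yon S).map r ≫ c) ≫ pullback.fst p p = ((yon S).map v ≫ pullback.lift _ _ e) ≫ pullback.fst p p := by
      rw [h4]
    rw [Category.assoc, Category.assoc, pullback.lift_fst, pullback.lift_fst] at this
    rw [Functor.map_comp, Functor.map_comp]
    exact this
  · have : ((yon S).map r ≫ c) ≫ pullback.snd p p = ((yon S).map v ≫ pullback.lift _ _ e) ≫ pullback.snd p p := by
      rw [h4]
    rw [Category.assoc, Category.assoc, pullback.lift_snd, pullback.lift_snd] at this
    rw [Functor.map_comp, Functor.map_comp]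
    exact this

end Rel

open AlgSp in
theorem exists_local_data (hq : QuotSh.IsQuotient Scheme.fppfPrecoverage a.act (snd G X) φ) :
    GIT.IsInvariant a φ ∧
    (∃ (V : Over S) (v : V ⟶ Y) (l : V ⟶ X), Flat v.left ∧ Surjective v.left ∧
      LocallyOfFinitePresentation v.left ∧ l ≫ φ = v) ∧
    ∀ {T : Over S} (x y : T ⟶ X), x ≫ φ = y ≫ φ → ∃ (V : Over S) (v : V ⟶ T) (r : V ⟶ G ⊗ X),
      Flat v.left ∧ Surjective v.left ∧ LocallyOfFinitePresentation v.left ∧
      r ≫ snd G X = v ≫ x ∧ r ≫ a.act = v ≫ y := by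
  obtain ⟨hi, hiso⟩ := hq
  obtain ⟨w, ⟨hc⟩⟩ := AlgSpace.nonempty_isColimit_quot a.act (snd G X)
  set p := (QuotSh.repIsoUliftYoneda Scheme.fppfPrecoverage X).inv ≫
    QuotSh.quotπ Scheme.fppfPrecoverage a.act (snd G X)
  have hlsurj : Sheaf.IsLocallySurjective p := AlgSpace.isLocallySurjective_quotπ _ _
  haveI := hiso
  let e : QuotSh.quot Scheme.fppfPrecoverage a.act (snd G X) ⟶ (yon S).obj Y :=
    QuotSh.quotDesc Scheme.fppfPrecoverage φ hi ≫ (QuotSh.repIsoUliftYoneda Scheme.fppfPrecoverage Y).hom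
  haveI : IsIso e := inferInstance
  have hn : (yon S).map φ ≫ (QuotSh.repIsoUliftYoneda Scheme.fppfPrecoverage Y).inv =
      (QuotSh.repIsoUliftYoneda Scheme.fppfPrecoverage X).inv ≫ QuotSh.repMap Scheme.fppfPrecoverage φ := by
    rw [Iso.eq_inv_comp, ← Category.assoc, Iso.comp_inv_eq]
    apply ObjectProperty.hom_ext
    apply sheafify_hom_ext _ _ _ ((yon S).obj Y).property
    simp only [QuotSh.repIsoUliftYoneda, QuotSh.repMap]
    simp [sheafificationIso]
    have k₁ := toSheafify_sheafifyLift (QuotSh.J Scheme.fppfPrecoverage S)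
      (𝟙 ((yon S).obj X).obj) ((yon S).obj X).property
    have k₂ := toSheafify_naturality (QuotSh.J Scheme.fppfPrecoverage S)
      (Functor.whiskerRight (yoneda.map φ) uliftFunctor.{u + 1, u})
    refine ((Category.assoc _ _ _).symm.trans ((congrArg (· ≫ ((yon S).map φ).hom) k₁).trans
      (Category.id_comp _))).trans ?_
    refine Eq.trans ?_ ((Category.assoc _ _ _).trans rfl)
    refine Eq.trans ?_ (congrArg (· ≫ _) k₂)
    refine Eq.trans ?_ (Category.assoc _ _ _).symm
    refine Eq.trans ?_ (congrArg (_ ≫ ·) (toSheafify_sheafifyLift _ _ ((yon S).obj Y).property).symm)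
    exact (Category.comp_id _).symm
  have hπd : QuotSh.quotπ Scheme.fppfPrecoverage a.act (snd G X) ≫ QuotSh.quotDesc Scheme.fppfPrecoverage φ hi =
      QuotSh.repMap Scheme.fppfPrecoverage φ := coequalizer.π_desc _ _
  have hpe : p ≫ e = (yon S).map φ := by
    show (_ ≫ _) ≫ _ ≫ _ = _
    rw [Category.assoc, reassoc_of% hπd, ← Category.assoc, ← hn, Category.assoc, Iso.inv_hom_id, Category.comp_id]
  refine ⟨hi, ?_, fun {T} x y hxy => local_rel w hc x y ?_⟩
  · haveI : Sheaf.IsLocallySurjective ((yon S).map φ) := by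
      rw [← hpe, CategoryTheory.Sheaf.isLocallySurjective_iff_epi]
      haveI : Epi p := (CategoryTheory.Sheaf.isLocallySurjective_iff_epi p).1 hlsurj
      exact epi_comp _ _
    obtain ⟨V, v, l, h1, h2, h3, h4⟩ := AlgSpace.exists_single_cover_lift ((yon S).map φ) (𝟙 _)
    obtain ⟨l, rfl⟩ := (yon S).map_surjective l
    exact ⟨V, v, l, h1, h2, h3, (yon S).map_injective (by rw [Functor.map_comp, h4, Category.comp_id])⟩
  · refine (cancel_mono e).1 (((Category.assoc _ _ _).trans ((congrArg ((yon S).map x ≫ ·) hpe).trans ?_)).trans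
      ((Category.assoc _ _ _).trans (congrArg ((yon S).map y ≫ ·) hpe)).symm)
    exact ((yon S).map_comp x φ).symm.trans ((congrArg (yon S).map hxy).trans ((yon S).map_comp y φ))

theorem universallyOpen_of_flat {X Y : Scheme.{u}} (f : X ⟶ Y) [Flat f] [LocallyOfFinitePresentation f] :
    UniversallyOpen f := inferInstance

/-- An fppf quotient sheaf representable by a scheme is a geometric quotient. -/
theorem isGeomQuot_of_fppf (hq : QuotSh.IsQuotient Scheme.fppfPrecoverage a.act (snd G X) φ) :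
    GIT.IsGeomQuot a φ := by
  obtain ⟨hi, ⟨V, v, l, hvf, hvs, hvp, hlv⟩, hK⟩ := exists_local_data hq
  haveI := hvf; haveI := hvs; haveI := hvp
  have hlv' : l.left ≫ φ.left = v.left := congrArg CommaMorphism.left hlv
  have hsurj : Function.Surjective φ.left.base := fun y => by
    obtain ⟨z, rfl⟩ := v.left.surjective y
    exact ⟨l.left z, congrArg (fun m : V.left ⟶ Y.left => m z) hlv'⟩
  have hK' : ∀ {W : Scheme.{u}} (g₁ g₂ : W ⟶ X.left), g₁ ≫ φ.left = g₂ ≫ φ.left →
      ∃ (W' : Scheme.{u}) (c : W' ⟶ W) (w : W' ⟶ (G ⊗ X).left), Flat c ∧ Surjective c ∧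
        LocallyOfFinitePresentation c ∧ w ≫ a.act.left = c ≫ g₁ ∧ w ≫ (snd G X).left = c ≫ g₂ := by
    intro W g₁ g₂ hg
    let T : Over S := Over.mk (g₁ ≫ X.hom)
    let x₁ : T ⟶ X := Over.homMk g₁ rfl
    let x₂ : T ⟶ X := Over.homMk g₂ (by
      show g₂ ≫ X.hom = g₁ ≫ X.hom
      rw [← Over.w φ, ← Category.assoc, ← hg, Category.assoc])
    obtain ⟨W', c, r, h1, h2, h3, h4, h5⟩ := hK x₂ x₁ (Over.OverMorphism.ext hg.symm)
    exact ⟨W'.left, c.left, r.left, h1, h2, h3, congrArg CommaMorphism.left h5, congrArg CommaMorphism.left h4⟩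
  refine ⟨hi, hsurj, fun p => ?_, ?_, fun U => ?_⟩
  · obtain ⟨W', c, w, -, hc, -, w1, w2⟩ := hK' _ _ (pullback.condition (f := φ.left) (g := φ.left))
    haveI := hc
    obtain ⟨z, rfl⟩ := c.surjective p
    refine ⟨w z, ?_⟩
    have : w ≫ GIT.PsiY a φ hi = c := by
      apply pullback.hom_ext
      · exact (Category.assoc _ _ _).trans ((congrArg (w ≫ ·) (PsiY_fst hi)).trans w1)
      · exact (Category.assoc _ _ _).trans ((congrArg (w ≫ ·) (PsiY_snd hi)).trans w2)
    exact congrArg (fun m : W' ⟶ pullback φ.left φ.left => m z) this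
  · intro X' Y' i₁ i₂ f' H
    let c := pullback.snd v.left i₂
    let l' : pullback v.left i₂ ⟶ X' := H.lift c (pullback.fst v.left i₂ ≫ l.left)
      (by rw [Category.assoc, hlv', pullback.condition])
    have hl' : l' ≫ f' = c := H.lift_fst _ _ _
    have hf's : Function.Surjective f' := fun y => by
      obtain ⟨z, rfl⟩ := c.surjective y
      exact ⟨l' z, congrArg (fun m : _ ⟶ Y' => m z) hl'⟩
    refine (Topology.isQuotientMap_iff _).2 ⟨.of_isOpen_preimage_iff_isOpen fun O => ⟨fun hO => ?_,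
      fun hO => hO.preimage f'.continuous⟩, hf's⟩
    have h1 : IsOpen (c ⁻¹' O) := by
      have e : c ⁻¹' O = l' ⁻¹' (f' ⁻¹' O) := by
        ext z
        show c z ∈ O ↔ f' (l' z) ∈ O
        rw [← Scheme.Hom.comp_apply, hl']
      rw [e]
      exact hO.preimage l'.continuous
    have h2 := c.isOpenMap _ h1
    rwa [Set.image_preimage_eq O c.surjective] at h2
  · set O := φ.left ⁻¹ᵁ U
    set p := φ.left ∣_ U with hp
    have hιO : O.ι ⁻¹ᵁ O = ⊤ := O.ι_preimage_self
    have hιU : U.ι ⁻¹ᵁ U = ⊤ := U.ι_preimage_self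
    let resO : Γ(X.left, O) ⟶ Γ(O.toScheme, ⊤) := O.ι.appLE O ⊤ hιO.ge
    let resU : Γ(Y.left, U) ⟶ Γ(U.toScheme, ⊤) := U.ι.appLE U ⊤ hιU.ge
    have hresO : Function.Bijective resO := by
      haveI : IsIso resO := by
        simp only [resO, Scheme.Opens.ι_appLE]
        rw [show (homOfLE _ : O.ι ''ᵁ ⊤ ⟶ O) = eqToHom O.ι_image_top from Subsingleton.elim _ _]
        exact (X.left.presheaf.mapIso (eqToIso O.ι_image_top).op).isIso_hom
      exact ConcreteCategory.bijective_of_isIso resO
    have hresU : Function.Bijective resU := by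
      haveI : IsIso resU := by
        simp only [resU, Scheme.Opens.ι_appLE]
        rw [show (homOfLE _ : U.ι ''ᵁ ⊤ ⟶ U) = eqToHom U.ι_image_top from Subsingleton.elim _ _]
        exact (Y.left.presheaf.mapIso (eqToIso U.ι_image_top).op).isIso_hom
      exact ConcreteCategory.bijective_of_isIso resU
    have hnat : ∀ t, p.appTop (resU t) = resO (φ.left.app U t) := by
      intro t
      rw [φ.left.app_eq_appLE, ← CommRingCat.comp_apply, ← CommRingCat.comp_apply]
      refine congrArg (fun m => (CommRingCat.Hom.hom m) t) ?_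
      simp only [resU, resO, Scheme.Hom.appTop, Scheme.Hom.app_eq_appLE]
      exact (Scheme.Hom.appLE_comp_appLE (φ.left ∣_ U) U.ι _ _ _ _ _).trans
        ((appLE_congr (morphismRestrict_ι φ.left U) _ _ _).trans
          (Scheme.Hom.appLE_comp_appLE O.ι φ.left _ _ _ _ _).symm)
    let c := pullback.snd v.left U.ι
    let lc : pullback v.left U.ι ⟶ O.toScheme := (isPullback_morphismRestrict φ.left U).lift c
      (pullback.fst v.left U.ι ≫ l.left) (by rw [Category.assoc, hlv', pullback.condition])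
    have hlc : lc ≫ p = c := (isPullback_morphismRestrict φ.left U).lift_fst _ _ _
    refine ⟨fun x y hxy => hresU.1 ?_, Set.ext fun f => ⟨?_, fun hf => ?_⟩⟩
    · have : c ≫ fnS (resU x) = c ≫ fnS (resU y) := by
        rw [← hlc, Category.assoc, Category.assoc, comp_fnS p, comp_fnS p, hnat, hnat, hxy]
      simpa [valA1_fnS] using congrArg valA1 ((cancel_epi c).1 this)
    · rintro ⟨t, rfl⟩
      exact isInvSection_app hi U t
    · have KEY : ∀ {W : Scheme.{u}} (g₁ g₂ : W ⟶ O.toScheme), g₁ ≫ p = g₂ ≫ p →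
          g₁ ≫ fnS (resO f) = g₂ ≫ fnS (resO f) := by
        intro W g₁ g₂ hg
        have hg' : (g₁ ≫ O.ι) ≫ φ.left = (g₂ ≫ O.ι) ≫ φ.left := by
          simpa [hp, morphismRestrict_ι] using congrArg (· ≫ U.ι) hg
        obtain ⟨W', d, w, hd1, hd2, hd3, w1, w2⟩ := hK' _ _ hg'
        haveI := hd1; haveI := hd2; haveI := hd3
        rw [← cancel_epi d, ← Category.assoc, ← Category.assoc, comp_fnS, comp_fnS]
        apply congrArg fnS
        set R := a.act.left ⁻¹ᵁ O ⊓ (snd G X).left ⁻¹ᵁ O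
        have hR : (⊤ : W'.Opens) ≤ w ⁻¹ᵁ R := fun z _ =>
          ⟨show (w ≫ a.act.left) z ∈ O by rw [w1]; exact (g₁ (d z)).2,
            show (w ≫ (snd G X).left) z ∈ O by rw [w2]; exact (g₂ (d z)).2⟩
        have key := congrArg (w.appLE R ⊤ hR) (show _ = _ from hf)
        rw [← CommRingCat.comp_apply, ← CommRingCat.comp_apply] at key
        show (d ≫ g₁).appTop (O.ι.appLE O ⊤ hιO.ge f) = (d ≫ g₂).appTop (O.ι.appLE O ⊤ hιO.ge f)
        rw [ι_appLE_appTop, ι_appLE_appTop]
        refine Eq.trans ?_ (key.trans ?_)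
        · refine congrArg (fun m => (CommRingCat.Hom.hom m) f) ?_
          exact (appLE_congr ((Category.assoc _ _ _).trans w1.symm) _ _ _).trans
            (Scheme.Hom.appLE_comp_appLE w a.act.left _ _ _ _ _).symm
        · refine congrArg (fun m => (CommRingCat.Hom.hom m) f) ?_
          exact (Scheme.Hom.appLE_comp_appLE w (snd G X).left _ _ _ _ _).trans
            (appLE_congr (w2.trans (Category.assoc _ _ _).symm) _ _ _)
      have hdesc : ∀ {W : Scheme.{u}} (g₁ g₂ : W ⟶ pullback v.left U.ι), g₁ ≫ c = g₂ ≫ c →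
          g₁ ≫ lc ≫ fnS (resO f) = g₂ ≫ lc ≫ fnS (resO f) := fun {W} g₁ g₂ hg => by
        rw [← Category.assoc, ← Category.assoc]
        exact KEY _ _ (by rw [Category.assoc, Category.assoc, hlc, hg])
      let d := EffectiveEpi.desc c (lc ≫ fnS (resO f)) hdesc
      have hd : p ≫ d = fnS (resO f) := by
        rw [← cancel_epi (pullback.fst p c), ← Category.assoc, pullback.condition, Category.assoc,
          EffectiveEpi.fac, ← Category.assoc]
        exact KEY _ _ (by rw [Category.assoc, hlc, ← pullback.condition])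
      obtain ⟨t, ht⟩ := hresU.2 (valA1 d)
      refine ⟨t, hresO.1 ?_⟩
      rw [← hnat, ht, ← valA1_comp, hd, valA1_fnS]

end Groth.Agent.GITQuot
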