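import Groth.Agent.Lib.GITQuot.Fpqc
import Groth.Agent.Lib.FpqcDesc.Basic
import Groth.Agent.Lib.AlgSpDescent.Instances
import Groth.Prelude.Def_NonAbH2

/-! # fpqc torsors under affine groups. -/

set_option autoImplicit false
set_option linter.style.haveILetI false
set_option backward.isDefEq.respectTransparency.types false
universe u

open CategoryTheory Limits MonoidalCategory CartesianMonoidalCategory AlgebraicGeometry Topology MorphismProperty

noncomputable section

namespace Groth.Agent.GITQuot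

/-- An affine faithfully flat chart through an fpqc covering. -/
theorem exists_affine_chart {Y : Scheme.{u}} {R : Presieve Y} (hR : R ∈ Scheme.fpqcPrecoverage Y) {U : Y.Opens}
    (hU : IsAffineOpen U) (X : Over Y) (hs : ∀ ⦃S' : Scheme.{u}⦄ (f : S' ⟶ Y), R f → NonAbH1.HasSectionOver X f) :
    ∃ (W : Scheme.{u}) (p : W ⟶ U.toScheme) (r : W ⟶ X.left), IsAffine W ∧ Flat p ∧ Surjective p ∧
      r ≫ X.hom = p ≫ U.ι := by
  have hR' : R.preZeroHypercover.presieve₀ ∈ Scheme.fpqcPrecoverage Y := by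
    rw [Presieve.presieve₀_preZeroHypercover]; exact hR
  haveI : QuasiCompactCover R.preZeroHypercover := Scheme.presieve₀_mem_qcPrecoverage_iff.1 hR'.1
  have hflat : ∀ i : R.preZeroHypercover.I₀, Flat (R.preZeroHypercover.f i) := fun i =>
    ((Scheme.presieve₀_mem_precoverage_iff _).1 hR'.2).2 i
  obtain ⟨n, f, V, hV, hUV⟩ :=
    QuasiCompactCover.exists_isAffineOpen_of_isCompact R.preZeroHypercover (U := U) hU.isCompact
  let W : ULift.{u} (Fin n) → Scheme.{u} := fun i => (V i.down).toScheme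
  haveI : ∀ i, IsAffine (W i) := fun i => hV i.down
  have hle : Set.range (Sigma.desc (fun i : ULift.{u} (Fin n) => (V i.down).ι ≫ R.preZeroHypercover.f (f i.down))) ⊆
      Set.range U.ι := by
    rintro _ ⟨z, rfl⟩
    obtain ⟨i, w, rfl⟩ := (sigmaOpenCover W).exists_eq z
    erw [← Scheme.Hom.comp_apply]
    erw [Sigma.ι_desc]
    rw [Scheme.Opens.range_ι, ← hUV]
    exact Set.mem_iUnion.2 ⟨i.down, _, w.2, rfl⟩
  let p : (∐ W) ⟶ U.toScheme := IsOpenImmersion.lift U.ι _ hle
  have hp : p ≫ U.ι = Sigma.desc (fun i : ULift.{u} (Fin n) => (V i.down).ι ≫ R.preZeroHypercover.f (f i.down)) :=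
    IsOpenImmersion.lift_fac _ _ _
  choose s hs' using fun i : ULift.{u} (Fin n) =>
    hs (R.preZeroHypercover.f (f i.down)) (by exact (f i.down).2)
  refine ⟨∐ W, p, Sigma.desc fun i => (V i.down).ι ≫ s i, inferInstance, ?_, ⟨fun y => ?_⟩, ?_⟩
  · haveI : Flat (p ≫ U.ι) := by
      rw [hp]
      exact IsZariskiLocalAtSource.sigmaDesc (P := @Flat) fun i => inferInstance
    exact MorphismProperty.of_postcomp (W := @Flat) (W' := @IsOpenImmersion) p U.ι inferInstance ‹_›
  · have hy : U.ι y ∈ (U : Set Y) := y.2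
    rw [← hUV] at hy
    obtain ⟨i, v, hv, hvy⟩ := Set.mem_iUnion.1 hy
    refine ⟨Sigma.ι W ⟨i⟩ ⟨v, hv⟩, Subtype.ext ?_⟩
    show (Sigma.ι W ⟨i⟩ ≫ p ≫ U.ι) _ = U.ι y
    rw [hp, Sigma.ι_desc]
    exact hvy
  · rw [hp]
    refine Sigma.hom_ext _ _ fun i => ?_
    rw [Sigma.ι_desc, Sigma.ι_desc_assoc, Category.assoc, hs']

theorem isAffineHom_flat_surjective {k : Type u} [Field k] {G X Y : Over (Spec (CommRingCat.of k))} [GrpObj G]
    [IsAffine G.left] {a : AlgGrp.Action G X} {φ : X ⟶ Y}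
    (hcart : IsPullback a.act (snd G X) φ φ)
    (hloc : NonAbH1.IsLocallyTrivialFor Scheme.fpqcPrecoverage (Over.mk φ.left : Over Y.left)) :
    IsAffineHom φ.left ∧ Flat φ.left ∧ Surjective φ.left := by
  obtain ⟨R, hR, hs⟩ := hloc
  have hG : IsAffineHom G.hom ∧ Flat G.hom ∧ Surjective G.hom := by
    refine ⟨inferInstance, inferInstance, ⟨fun z => ⟨MonObj.one (X := G) |>.left z, ?_⟩⟩⟩
    rw [← Scheme.Hom.comp_apply, Over.w (MonObj.one (X := G))]
    exact Subsingleton.elim (α := Spec (CommRingCat.of k)) _ _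
  have hlocal : ∀ U : Y.left.affineOpens,
      IsAffineHom (φ.left ∣_ U.1) ∧ Flat (φ.left ∣_ U.1) ∧ Surjective (φ.left ∣_ U.1) := by
    rintro ⟨U, hU⟩
    obtain ⟨W, p, r, hW, hpf, hps, hr⟩ := exists_affine_chart hR hU _ hs
    haveI := hW; haveI := hpf; haveI := hps
    haveI : IsAffine U.toScheme := hU
    haveI : QuasiCompact p := inferInstance
    let W' : Over (Spec (CommRingCat.of k)) := Over.mk ((p ≫ U.ι) ≫ Y.hom)
    have hr' : r ≫ φ.left = p ≫ U.ι := hr
    let s : W' ⟶ X := Over.homMk r (by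
      show r ≫ X.hom = (p ≫ U.ι) ≫ Y.hom
      rw [← Over.w φ, ← Category.assoc, hr'])
    have h1 : IsPullback a.act.left (snd G X).left φ.left φ.left := hcart.map (Over.forget _)
    have h2 : IsPullback ((G ◁ s).left ≫ a.act.left) (snd G W').left φ.left (p ≫ U.ι) := by
      have := (isPullback_whiskerLeft s G).paste_horiz h1
      change IsPullback ((G ◁ s).left ≫ a.act.left) (snd G W').left φ.left (r ≫ φ.left) at this
      rwa [hr'] at this
    have h3 : IsPullback (φ.left ∣_ U) (φ.left ⁻¹ᵁ U).ι U.ι φ.left := isPullback_morphismRestrict φ.left U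
    let l : (G ⊗ W').left ⟶ (φ.left ⁻¹ᵁ U).toScheme :=
      h3.lift ((snd G W').left ≫ p) ((G ◁ s).left ≫ a.act.left) (by rw [Category.assoc, h2.w])
    have hl1 : l ≫ φ.left ∣_ U = (snd G W').left ≫ p := h3.lift_fst _ _ _
    have hl2 : l ≫ (φ.left ⁻¹ᵁ U).ι = (G ◁ s).left ≫ a.act.left := h3.lift_snd _ _ _
    have h4 : IsPullback l (snd G W').left (φ.left ∣_ U) p := by
      refine IsPullback.of_right ?_ hl1 h3.flip
      rw [hl2]; exact h2
    have hsnd : IsPullback (snd G W').left (fst G W').left W'.hom G.hom :=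
      (IsPullback.of_hasPullback G.hom W'.hom).flip
    have hQ : (@Surjective ⊓ @Flat ⊓ @QuasiCompact : MorphismProperty Scheme.{u}) p := ⟨⟨hps, hpf⟩, inferInstance⟩
    haveI := FpqcDesc.descendsAlong_isAffineHom.{u}
    refine ⟨MorphismProperty.of_isPullback_of_descendsAlong (P := @IsAffineHom) h4.flip hQ
        (MorphismProperty.of_isPullback (P := @IsAffineHom) hsnd.flip hG.1),
      MorphismProperty.of_isPullback_of_descendsAlong (P := @Flat) h4.flip hQ
        (MorphismProperty.of_isPullback (P := @Flat) hsnd.flip hG.2.1), ⟨fun y => ?_⟩⟩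
    haveI : Surjective (snd G W').left := MorphismProperty.of_isPullback (P := @Surjective) hsnd.flip hG.2.2
    obtain ⟨w, rfl⟩ := p.surjective y
    obtain ⟨z, rfl⟩ := (snd G W').left.surjective w
    exact ⟨l z, congrArg (fun m : (G ⊗ W').left ⟶ U.toScheme => m z) hl1⟩
  refine ⟨(IsZariskiLocalAtTarget.iff_of_iSup_eq_top (P := @IsAffineHom) _ (iSup_affineOpens_eq_top Y.left)).2
      fun U => (hlocal U).1,
    (IsZariskiLocalAtTarget.iff_of_iSup_eq_top (P := @Flat) _ (iSup_affineOpens_eq_top Y.left)).2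
      fun U => (hlocal U).2.1,
    (IsZariskiLocalAtTarget.iff_of_iSup_eq_top (P := @Surjective) _ (iSup_affineOpens_eq_top Y.left)).2
      fun U => (hlocal U).2.2⟩

end Groth.Agent.GITQuot
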